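import Groth.Agent.H29SpaceCurve.ChartFunction

/-!
# Quasi-finite maps to the affine line from a neighbourhood on an affine curve
-/

set_option autoImplicit false
set_option linter.style.haveILetI false

universe u

open CategoryTheory AlgebraicGeometry Polynomial

namespace Groth.Agent.H29SpaceCurve

variable {k : Type u} [Field k] [IsAlgClosed k]

/-- A function with no constant value on any component has finite fibres on an affine curve. -/
theorem quasiFinite_aeval {Q : Type u} [CommRing Q] [Algebra k Q] [Algebra.FiniteType k Q]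
    [Ring.KrullDimLE 1 Q] (F : Q) (h : ∀ p ∈ minimalPrimes Q, ∀ c : k, F - algebraMap k Q c ∉ p) :
    (aeval (R := k) F).toRingHom.QuasiFinite := by
  classical
  haveI : IsNoetherianRing Q := Algebra.FiniteType.isNoetherianRing k Q
  letI := (aeval (R := k) F).toRingHom.toAlgebra
  haveI : IsScalarTower k k[X] Q := IsScalarTower.of_algebraMap_eq fun c => ((aeval (R := k) F).commutes c).symm
  haveI : Algebra.FiniteType k[X] Q := Algebra.FiniteType.of_restrictScalars_finiteType k k[X] Q
  have hmax : ∀ x : Ideal Q, x.IsPrime → x ∉ minimalPrimes Q → x.IsMaximal := fun x hx hn => by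
    haveI := hx
    exact (Ring.krullDimLE_one_iff.1 ‹_› x hx).resolve_left hn
  have hres : ∀ x : Ideal Q, x.IsMaximal → ∃ c : k, F - algebraMap k Q c ∈ x := fun x hx => by
    haveI := hx
    letI := Ideal.Quotient.field x
    haveI : Module.Finite k (Q ⧸ x) := finite_of_finite_type_of_isJacobsonRing k (Q ⧸ x)
    obtain ⟨c, hc⟩ := (IsAlgClosed.algebraMap_bijective_of_isIntegral (k := k) (K := Q ⧸ x)).2 (Ideal.Quotient.mk x F)
    exact ⟨c, Ideal.Quotient.eq.1 hc.symm⟩
  refine Algebra.QuasiFinite.iff_finite_comap_preimage_singleton.mpr fun y => ?_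
  by_cases hy : y.asIdeal = ⊥
  · refine ((minimalPrimes.finite_of_isNoetherianRing Q).preimage
      (f := PrimeSpectrum.asIdeal) fun _ _ _ _ e => PrimeSpectrum.ext e).subset fun x hx => ?_
    by_contra hn
    obtain ⟨c, hc⟩ := hres _ (hmax _ x.2 hn)
    have h1 : X - C c ∈ y.asIdeal := by
      rw [← (Set.mem_singleton_iff.1 hx : _ = y), PrimeSpectrum.comap_asIdeal, Ideal.mem_comap]
      show aeval F (X - C c) ∈ x.asIdeal
      simpa using hc
    rw [hy, Ideal.mem_bot] at h1
    exact X_sub_C_ne_zero c h1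
  · obtain ⟨G, hG, hG0⟩ := (Submodule.ne_bot_iff _).1 hy
    obtain ⟨c, hc⟩ : ∃ c : k, X - C c ∈ y.asIdeal := by
      rw [(IsAlgClosed.splits G).eq_prod_roots] at hG
      rcases Ideal.IsPrime.mem_or_mem inferInstance hG with h1 | h1
      · exact absurd (Ideal.eq_top_of_isUnit_mem _ h1
          (isUnit_C.2 (isUnit_iff_ne_zero.2 (leadingCoeff_ne_zero.2 hG0)))) y.2.ne_top
      · rw [Ideal.IsPrime.multiset_prod_mem_iff_exists_mem inferInstance] at h1
        obtain ⟨p, hp, hp'⟩ := h1
        obtain ⟨a, -, rfl⟩ := Multiset.mem_map.1 hp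
        exact ⟨a, hp'⟩
    refine ((Ideal.finite_minimalPrimes_of_isNoetherianRing Q (Ideal.span {F - algebraMap k Q c})).preimage
      (f := PrimeSpectrum.asIdeal) fun _ _ _ _ e => PrimeSpectrum.ext e).subset fun x hx => ?_
    have hcx : F - algebraMap k Q c ∈ x.asIdeal := by
      rw [← (Set.mem_singleton_iff.1 hx : _ = y), PrimeSpectrum.comap_asIdeal, Ideal.mem_comap] at hc
      have : aeval F (X - C c) ∈ x.asIdeal := hc
      simpa using this
    refine ⟨⟨x.2, (Ideal.span_singleton_le_iff_mem _).2 hcx⟩, fun z hz hzx => ?_⟩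
    haveI := hz.1
    exact ((hmax z hz.1 fun hzm => h z hzm c ((Ideal.span_singleton_le_iff_mem _).1 hz.2)).eq_of_le x.2.ne_top hzx).ge

theorem spec_map_congr {R B : CommRingCat.{u}} (f : R ⟶ B) {Z : Scheme.{u}} (z₁ z₂ : Z ⟶ Spec B)
    (h : f ≫ (Scheme.ΓSpecIso B).inv ≫ z₁.appTop = f ≫ (Scheme.ΓSpecIso B).inv ≫ z₂.appTop) :
    z₁ ≫ Spec.map f = z₂ ≫ Spec.map f := by
  refine ext_of_isAffine ?_
  rw [Scheme.Hom.comp_appTop, Scheme.Hom.comp_appTop, ← cancel_epi (Scheme.ΓSpecIso R).inv]
  have hn : (Scheme.ΓSpecIso R).inv ≫ (Spec.map f).appTop = f ≫ (Scheme.ΓSpecIso B).inv :=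
    (Scheme.ΓSpecIso_inv_naturality f).symm
  rw [reassoc_of% hn, reassoc_of% hn, h]

/-- Near each closed point of an affine curve a nonconstant function comes from a dense open quotient. -/
theorem exists_map_affineLine {P : Type u} [CommRing P] [Algebra k P] [Algebra.FiniteType k P]
    [_root_.IsReduced P] [Ring.KrullDimLE 1 P] {A : Type u} [CommRing A] [IsDomain A] [Algebra k A]
    (hA : ¬ IsField A) (V : (Spec (CommRingCat.of P)).Opens) (hV : Dense (V : Set (Spec (CommRingCat.of P))))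
    (g : V.toScheme ⟶ Spec (CommRingCat.of A)) [Flat g]
    (hg : g ≫ Spec.map (CommRingCat.ofHom (algebraMap k A)) = V.ι ≫ Spec.map (CommRingCat.ofHom (algebraMap k P)))
    (q : PrimeSpectrum P) [q.asIdeal.IsMaximal] :
    ∃ (N D : Scheme.{u}) (i : N ⟶ Spec (CommRingCat.of P)) (j₁ : D ⟶ N) (j₂ : D ⟶ V.toScheme)
      (c : N ⟶ Spec (CommRingCat.of k[X])),
      IsOpenImmersion i ∧ IsOpenImmersion j₁ ∧ j₁ ≫ i = j₂ ≫ V.ι ∧ IsDominant j₁ ∧ q ∈ Set.range i ∧
      LocallyQuasiFinite c ∧ LocallyOfFiniteType c ∧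
      c ≫ Spec.map (CommRingCat.ofHom C) = i ≫ Spec.map (CommRingCat.ofHom (algebraMap k P)) ∧
      ∀ (Z : Scheme.{u}) (z₁ z₂ : Z ⟶ D), z₁ ≫ j₂ ≫ g = z₂ ≫ j₂ ≫ g → z₁ ≫ j₁ ≫ c = z₂ ≫ j₁ ≫ c := by
  classical
  haveI : IsNoetherianRing P := Algebra.FiniteType.isNoetherianRing k P
  -- a basic dense open inside `V`
  obtain ⟨I, hI⟩ := (PrimeSpectrum.isClosed_iff_zeroLocus_ideal _).1 V.2.isClosed_compl
  obtain ⟨h, hhI, hh⟩ : ∃ h ∈ I, ∀ p ∈ minimalPrimes P, h ∉ p := by
    by_contra hall
    push Not at hall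
    have hfin := minimalPrimes.finite_of_isNoetherianRing P
    obtain ⟨p, hp, hle⟩ := (Ideal.subset_union_prime_finite hfin ⊥ ⊥
      fun p hp _ _ => Ideal.IsMinimalPrime.isPrime hp).1
        (fun x hx => Set.mem_biUnion (hall x hx).choose_spec.1 (hall x hx).choose_spec.2 :
          (I : Set P) ⊆ ⋃ p ∈ minimalPrimes P, ((fun i => i) p : Ideal P))
    haveI := Ideal.IsMinimalPrime.isPrime hp
    have hgen : IsOpen (X := PrimeSpectrum P) V.1 := V.2
    let x : PrimeSpectrum P := ⟨p, inferInstance⟩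
    have hxV : x ∈ V.1 := by
      obtain ⟨r, hrp, hr⟩ : ∃ r, r ∉ p ∧ ∀ p' ∈ minimalPrimes P, p' ≠ p → r ∈ p' := by
        have : ¬ (hfin.toFinset.erase p).inf (fun i => i) ≤ p := by
          rw [Ideal.IsPrime.inf_le' inferInstance]
          rintro ⟨p', hp', hle'⟩
          obtain ⟨hne, hp'⟩ := Finset.mem_erase.1 hp'
          rw [Set.Finite.mem_toFinset] at hp'
          exact hne (le_antisymm hle' (hp.2 ⟨Ideal.IsMinimalPrime.isPrime hp', bot_le⟩ hle'))
        obtain ⟨r, hr, hrp⟩ := SetLike.not_le_iff_exists.1 this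
        exact ⟨r, hrp, fun p' hp' hne => Submodule.mem_finsetInf.1 hr p'
          (Finset.mem_erase.2 ⟨hne, hfin.mem_toFinset.2 hp'⟩)⟩
      obtain ⟨z, hz, hzV⟩ := hV.inter_open_nonempty (PrimeSpectrum.basicOpen r : Set (PrimeSpectrum P))
        (PrimeSpectrum.basicOpen r).2 ⟨x, hrp⟩
      refine Specializes.mem_open ((PrimeSpectrum.le_iff_specializes x z).1 ?_) hgen hzV
      obtain ⟨p', hp', hle'⟩ := Ideal.exists_minimalPrimes_le (I := (⊥ : Ideal P)) (J := z.asIdeal) bot_le
      by_cases e : p' = p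
      · show p ≤ z.asIdeal
        exact e ▸ hle'
      · exact absurd (hle' (hr p' hp' e)) hz
    exact (hI.ge (show x ∈ PrimeSpectrum.zeroLocus I from hle)) hxV
  have hhV : Set.range (Spec.map (CommRingCat.ofHom (algebraMap P (Localization.Away h)))) ⊆ Set.range V.ι := by
    rw [Scheme.Opens.range_ι]
    change Set.range (PrimeSpectrum.comap (algebraMap P (Localization.Away h))) ⊆ _
    rw [PrimeSpectrum.localization_away_comap_range _ h]
    intro x hx
    by_contra hxV
    exact hx ((hI.le hxV) hhI)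
  haveI : IsOpenImmersion (Spec.map (CommRingCat.ofHom (algebraMap P (Localization.Away h)))) :=
    IsOpenImmersion.of_isLocalization h
  let jh : Spec (CommRingCat.of (Localization.Away h)) ⟶ V.toScheme := IsOpenImmersion.lift V.ι _ hhV
  have hjh : jh ≫ V.ι = Spec.map (CommRingCat.ofHom (algebraMap P (Localization.Away h))) :=
    IsOpenImmersion.lift_fac V.ι _ hhV
  let γ₀ : CommRingCat.of A ⟶ CommRingCat.of (Localization.Away h) := Spec.preimage (jh ≫ g)
  have hγ₀ : Spec.map γ₀ = jh ≫ g := Spec.map_preimage _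
  haveI : IsOpenImmersion (jh ≫ V.ι) := hjh ▸ inferInstance
  haveI : IsOpenImmersion jh := IsOpenImmersion.of_comp jh V.ι
  have hflat : γ₀.hom.Flat := by
    rw [← HasRingHomProperty.Spec_iff (P := @Flat), hγ₀]
    infer_instance
  have hk : CommRingCat.ofHom (algebraMap k A) ≫ γ₀ =
      CommRingCat.ofHom (algebraMap k (Localization.Away h)) := by
    apply Spec.map_injective
    rw [Spec.map_comp, hγ₀, Category.assoc, hg, reassoc_of% hjh, ← Spec.map_comp]
    rfl
  let γ : A →ₐ[k] Localization.Away h := { toRingHom := γ₀.hom, commutes' := fun c => congr($(hk).hom c) }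
  have hq : ∀ z : P, ∃ c : k, z - algebraMap k P c ∈ q.asIdeal := fun z => by
    letI := Ideal.Quotient.field q.asIdeal
    haveI : Module.Finite k (P ⧸ q.asIdeal) := finite_of_finite_type_of_isJacobsonRing k _
    obtain ⟨c, hc⟩ := (IsAlgClosed.algebraMap_bijective_of_isIntegral (k := k) (K := P ⧸ q.asIdeal)).2
      (Ideal.Quotient.mk q.asIdeal z)
    exact ⟨c, Ideal.Quotient.eq.1 hc.symm⟩
  obtain ⟨d, e, β, α, a, b, n, hdq, hβ, hγb, hγa, heq, htr⟩ :=
    exists_chart_function h hh γ hflat hA q.asIdeal hq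
  -- the rings
  let E := Localization.Away (d * (h * β))
  let Q := Localization.Away d
  have hu : ∀ x, x ∣ d * (h * β) → IsUnit (algebraMap P E x) := fun x hx =>
    isUnit_of_dvd_unit (map_dvd (algebraMap P E) hx) (IsLocalization.Away.algebraMap_isUnit (d * (h * β)))
  let ι₁ : Q →+* E := IsLocalization.Away.lift d (hu d (dvd_mul_right _ _))
  let ι₂ : Localization.Away h →+* E := IsLocalization.Away.lift h (hu h ((dvd_mul_right h β).mul_left d))
  have hι₁ : ι₁.comp (algebraMap P Q) = algebraMap P E := IsLocalization.Away.lift_comp d _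
  have hι₂ : ι₂.comp (algebraMap P (Localization.Away h)) = algebraMap P E := IsLocalization.Away.lift_comp h _
  let F : Q := IsLocalization.mk' Q e (⟨d, 1, pow_one d⟩ : Submonoid.powers d)
  have hF : ι₁ F * ι₂ (γ b) = ι₂ (γ a) := by
    have h1 : ι₁ F * algebraMap P E d = algebraMap P E e := by
      rw [← hι₁, RingHom.comp_apply, RingHom.comp_apply, ← map_mul]
      exact congrArg ι₁ (IsLocalization.mk'_spec Q e _)
    have h2 : ∀ x : P, ι₂ (IsLocalization.mk' (Localization.Away h) x (⟨h ^ n, n, rfl⟩ : Submonoid.powers h)) *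
        algebraMap P E (h ^ n) = algebraMap P E x := fun x => by
      rw [← hι₂, RingHom.comp_apply, RingHom.comp_apply, ← map_mul]
      exact congrArg ι₂ (IsLocalization.mk'_spec _ x _)
    have hun : IsUnit (algebraMap P E d * algebraMap P E (h ^ n)) :=
      (hu d (dvd_mul_right _ _)).mul (map_pow (algebraMap P E) h n ▸ (hu h ((dvd_mul_right h β).mul_left d)).pow n)
    refine hun.mul_right_cancel ?_
    calc ι₁ F * ι₂ (γ b) * (algebraMap P E d * algebraMap P E (h ^ n))
        = (ι₁ F * algebraMap P E d) * (ι₂ (γ b) * algebraMap P E (h ^ n)) := by ring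
      _ = algebraMap P E (e * β) := by rw [h1, hγb, h2, map_mul]
      _ = algebraMap P E d * algebraMap P E α := by rw [heq, map_mul]
      _ = ι₂ (γ a) * (algebraMap P E d * algebraMap P E (h ^ n)) := by rw [hγa, ← h2 α]; ring
  have hub : IsUnit (ι₂ (γ b)) := by
    have := hu β ((dvd_mul_left β h).mul_left d)
    rw [← hι₂, RingHom.comp_apply, ← IsLocalization.mk'_spec (Localization.Away h) β
      (⟨h ^ n, n, rfl⟩ : Submonoid.powers h), map_mul, ← hγb] at this
    exact isUnit_of_mul_isUnit_left this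
  haveI : IsOpenImmersion (Spec.map (CommRingCat.ofHom (algebraMap P Q))) := IsOpenImmersion.of_isLocalization d
  haveI : IsOpenImmersion (Spec.map (CommRingCat.ofHom (algebraMap P E))) :=
    IsOpenImmersion.of_isLocalization (d * (h * β))
  let j₁ := Spec.map (CommRingCat.ofHom ι₁)
  have hj₁ : j₁ ≫ Spec.map (CommRingCat.ofHom (algebraMap P Q)) = Spec.map (CommRingCat.ofHom (algebraMap P E)) := by
    rw [← Spec.map_comp, ← CommRingCat.ofHom_comp, hι₁]
  let j₂ : Spec (CommRingCat.of E) ⟶ V.toScheme := Spec.map (CommRingCat.ofHom ι₂) ≫ jh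
  haveI : IsOpenImmersion (j₁ ≫ Spec.map (CommRingCat.ofHom (algebraMap P Q))) := hj₁ ▸ inferInstance
  haveI : IsOpenImmersion j₁ := IsOpenImmersion.of_comp j₁ (Spec.map (CommRingCat.ofHom (algebraMap P Q)))
  haveI : Algebra.FiniteType k Q := by
    haveI : Algebra.FiniteType P Q := IsLocalization.finiteType_of_monoid_fg (Submonoid.powers d) Q
    exact Algebra.FiniteType.trans (R := k) (S := P) (A := Q) inferInstance inferInstance
  have hQmin : ∀ p ∈ minimalPrimes Q, p.comap (algebraMap P Q) ∈ minimalPrimes P := fun p hp => by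
    have h0 := IsLocalization.minimalPrimes_map (Submonoid.powers d) Q (⊥ : Ideal P)
    rw [Ideal.map_bot] at h0
    exact (h0.le hp :)
  haveI : Ring.KrullDimLE 1 Q := Ring.krullDimLE_iff.2 <| by
    refine le_trans ?_ (Ring.krullDimLE_iff.1 (inferInstance : Ring.KrullDimLE 1 P))
    exact Order.krullDim_le_of_strictMono _
      (Monotone.strictMono_of_injective (fun _ _ hle => Ideal.comap_mono hle)
        (PrimeSpectrum.localization_comap_injective Q (Submonoid.powers d)))
  have hqf : (aeval (R := k) F).toRingHom.QuasiFinite := quasiFinite_aeval F fun p hp c hc => by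
    haveI := Ideal.IsMinimalPrime.isPrime hp
    have hdp : d ∉ p.comap (algebraMap P Q) := fun hm =>
      Ideal.IsPrime.ne_top inferInstance (Ideal.eq_top_of_isUnit_mem p hm (IsLocalization.Away.algebraMap_isUnit d))
    refine htr _ (hQmin p hp) hdp c ?_
    rw [Ideal.mem_comap]
    have h1 := p.mul_mem_right (algebraMap P Q d) hc
    rwa [sub_mul, show F * algebraMap P Q d = algebraMap P Q e from IsLocalization.mk'_spec Q e _,
      IsScalarTower.algebraMap_apply k P Q, ← map_mul, ← map_sub] at h1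
  let c := Spec.map (CommRingCat.ofHom (aeval (R := k) F).toRingHom)
  have hc : c ≫ Spec.map (CommRingCat.ofHom C) =
      Spec.map (CommRingCat.ofHom (algebraMap P Q)) ≫ Spec.map (CommRingCat.ofHom (algebraMap k P)) := by
    rw [← Spec.map_comp, ← Spec.map_comp, ← CommRingCat.ofHom_comp, ← CommRingCat.ofHom_comp]
    refine congrArg (fun f => Spec.map (CommRingCat.ofHom f)) (RingHom.ext fun x => ?_)
    show aeval F (C x) = _
    rw [aeval_C, IsScalarTower.algebraMap_apply k P Q]; rfl
  refine ⟨Spec (CommRingCat.of Q), Spec (CommRingCat.of E), Spec.map (CommRingCat.ofHom (algebraMap P Q)), j₁, j₂, c,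
    inferInstance, inferInstance, ?_, ?_, ?_, ?_, ?_, hc, ?_⟩
  · rw [hj₁, Category.assoc, hjh, ← Spec.map_comp, ← CommRingCat.ofHom_comp, hι₂]
  · refine ⟨fun x => ?_⟩
    obtain ⟨p, hp, hle⟩ := Ideal.exists_minimalPrimes_le (I := (⊥ : Ideal Q)) (J := x.asIdeal) bot_le
    haveI := Ideal.IsMinimalPrime.isPrime hp
    have hnot : d * (h * β) ∉ p.comap (algebraMap P Q) := fun hm => by
      rcases Ideal.IsPrime.mem_or_mem inferInstance hm with h1 | h1
      · exact Ideal.IsPrime.ne_top inferInstance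
          (Ideal.eq_top_of_isUnit_mem p h1 (IsLocalization.Away.algebraMap_isUnit d))
      rcases Ideal.IsPrime.mem_or_mem inferInstance h1 with h2 | h2
      · exact hh _ (hQmin p hp) h2
      · exact hβ _ (hQmin p hp) h2
    obtain ⟨z, hz⟩ : (⟨p.comap (algebraMap P Q), Ideal.IsPrime.comap _⟩ : PrimeSpectrum P) ∈
        Set.range (PrimeSpectrum.comap (algebraMap P E)) := by
      rw [PrimeSpectrum.localization_away_comap_range E (d * (h * β))]
      exact hnot
    have hzp : PrimeSpectrum.comap ι₁ z = (⟨p, inferInstance⟩ : PrimeSpectrum Q) := by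
      refine PrimeSpectrum.localization_comap_injective Q (Submonoid.powers d) ?_
      refine Eq.trans ?_ hz
      exact PrimeSpectrum.ext (by simp only [PrimeSpectrum.comap_asIdeal, Ideal.comap_comap, hι₁])
    let x₀ : PrimeSpectrum Q := ⟨p, inferInstance⟩
    have hle' : x₀ ⤳ (x : PrimeSpectrum Q) := (PrimeSpectrum.le_iff_specializes x₀ x).1 hle
    exact hle'.mem_closed (s := closure (Set.range (PrimeSpectrum.comap ι₁))) isClosed_closure (subset_closure ⟨z, hzp⟩)
  · show q ∈ Set.range (PrimeSpectrum.comap (algebraMap P Q))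
    rw [PrimeSpectrum.localization_away_comap_range Q d]
    exact hdq
  · exact (HasRingHomProperty.Spec_iff (P := @LocallyQuasiFinite)).2 hqf
  · haveI : LocallyOfFiniteType (c ≫ Spec.map (CommRingCat.ofHom C)) := by
      rw [hc, ← Spec.map_comp, ← CommRingCat.ofHom_comp, ← IsScalarTower.algebraMap_eq]
      exact (HasRingHomProperty.Spec_iff (P := @LocallyOfFiniteType)).2 (RingHom.finiteType_algebraMap.2 inferInstance)
    exact locallyOfFiniteType_of_comp c (Spec.map (CommRingCat.ofHom C))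
  · intro Z z₁ z₂ hz
    rw [← Spec.map_comp, ← CommRingCat.ofHom_comp]
    refine spec_map_congr _ _ _ (CommRingCat.hom_ext ?_)
    have hjg : j₂ ≫ g = Spec.map (γ₀ ≫ CommRingCat.ofHom ι₂) := by
      rw [Category.assoc, ← hγ₀, Spec.map_comp]
    rw [hjg] at hz
    have hz' := congrArg (fun m => (Scheme.ΓSpecIso (CommRingCat.of A)).inv ≫ Scheme.Hom.appTop m) hz
    have hn : (Scheme.ΓSpecIso (CommRingCat.of A)).inv ≫ (Spec.map (γ₀ ≫ CommRingCat.ofHom ι₂)).appTop =
        (γ₀ ≫ CommRingCat.ofHom ι₂) ≫ (Scheme.ΓSpecIso (CommRingCat.of E)).inv :=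
      (Scheme.ΓSpecIso_inv_naturality _).symm
    simp only [Scheme.Hom.comp_appTop, reassoc_of% hn] at hz'
    let ζ₁ : E →+* Γ(Z, ⊤) := ((Scheme.ΓSpecIso (CommRingCat.of E)).inv ≫ z₁.appTop).hom
    let ζ₂ : E →+* Γ(Z, ⊤) := ((Scheme.ΓSpecIso (CommRingCat.of E)).inv ≫ z₂.appTop).hom
    have hA' : ∀ x : A, ζ₁ (ι₂ (γ x)) = ζ₂ (ι₂ (γ x)) := fun x => congr($(hz').hom x)
    refine Polynomial.ringHom_ext (fun x => ?_) ?_
    · show ζ₁ (ι₁ (aeval F (C x))) = ζ₂ (ι₁ (aeval F (C x)))
      rw [aeval_C, IsScalarTower.algebraMap_apply k P Q, ← RingHom.comp_apply ι₁, hι₁, ← hι₂, RingHom.comp_apply,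
        ← IsScalarTower.algebraMap_apply k P (Localization.Away h), ← γ.commutes]
      exact hA' _
    · show ζ₁ (ι₁ (aeval F X)) = ζ₂ (ι₁ (aeval F X))
      rw [aeval_X]
      refine (hub.map ζ₁).mul_right_cancel ?_
      rw [← map_mul, hF, hA', hA', ← map_mul, hF]

end Groth.Agent.H29SpaceCurve
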