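import Groth.Agent.H12AlgSp.MinimalNonscheme
import Groth.Agent.H12AlgSp.TwoClosed.Minimal
import Groth.Agent.S10045

/-!
# Minimal closed subspaces which are not schemes, by Noetherian induction

No separation or qcqs hypothesis is needed on the base when an affine noetherian chart is given.
-/

set_option autoImplicit false
set_option linter.style.haveILetI false
set_option backward.isDefEq.respectTransparency false

universe u

open CategoryTheory CategoryTheory.Limits AlgebraicGeometry Opposite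
open AlgSp Groth.Agent.H13AlgSp Groth.Agent.H13Cartier Groth.Agent.H12AlgSp

namespace Groth.Agent.H29SpaceCurve

variable {S : Scheme.{u}}

theorem wellFoundedGT_idealSheafData (U : Scheme.{u}) [IsAffine U] [IsNoetherian U] :
    WellFoundedGT U.IdealSheafData := by
  haveI : IsNoetherianRing Γ(U, ⊤) := IsLocallyNoetherian.component_noetherian ⟨⊤, isAffineOpen_top U⟩
  haveI : WellFoundedGT (Ideal Γ(U, ⊤)) := inferInstance
  exact StrictMono.wellFoundedGT (f := fun I : U.IdealSheafData => I.ideal ⟨⊤, isAffineOpen_top U⟩)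
    (Monotone.strictMono_of_injective (fun I J h => h _) fun I J h => Scheme.IdealSheafData.ext_of_isAffine h)

/-- A space with a noetherian affine chart which is not a scheme has a closed subspace which is reduced,
irreducible and not a scheme. -/
theorem exists_irreducible_nonscheme {X : Sp S} (hX : IsAlgSpace X) {U : Over S} [IsAffine U.left]
    [IsNoetherian U.left] {p : (yon S).obj U ⟶ X} (hp : RepWith @Etale p) (hps : RepWith @Surjective p)
    (hns : ¬ X.obj.IsRepresentable) :
    ∃ (Z : Sp S) (i : Z ⟶ X), IsAlgSpace Z ∧ RepWith @IsClosedImmersion i ∧ ¬ Z.obj.IsRepresentable ∧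
      IsReducedSp Z ∧ IrreducibleSpace (Points Z) := by
  have hne : ({I | InvIdeal p I ∧ ¬ (idealSub p I).obj.IsRepresentable} : Set U.left.IdealSheafData).Nonempty := by
    refine ⟨⊥, fun A d d' _ => by simp, fun h => hns ?_⟩
    have : IsIso (idealSubι p ⊥) := by
      obtain ⟨k, hk⟩ := exists_lift_idealSub (p := p) (I := ⊥) (𝟙 X) fun T x A a d _ =>
        Scheme.IdealSheafData.comap_bot _
      exact ⟨k, (cancel_mono (idealSubι p ⊥)).1 (by rw [Category.assoc, hk, Category.comp_id, Category.id_comp]), hk⟩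
    obtain ⟨T, ⟨ρ⟩⟩ := isRepresentable_iff_exists_iso.1 h
    exact isRepresentable_iff_exists_iso.2 ⟨T, ⟨ρ ≪≫ asIso (idealSubι p ⊥)⟩⟩
  obtain ⟨I, ⟨hI, hIns⟩, hmax⟩ := (wellFoundedGT_idealSheafData U.left).wf.has_min _ hne
  obtain ⟨hZ, hcl, hcut⟩ := idealSub_props hX hp hps hI
  have hmin : ∀ (Z' : Sp S) (i' : Z' ⟶ idealSub p I), IsAlgSpace Z' → RepWith @IsClosedImmersion i' →
      ¬ IsIso i' → Z'.obj.IsRepresentable := by
    intro Z' i' hZ' hi' hne
    let j := i' ≫ idealSubι p I
    have hj : RepWith @IsClosedImmersion j := repWith_comp hi' hcl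
    obtain ⟨J, hJ⟩ := exists_cutsOut hj p
    have hJi : InvIdeal p J := fun A d d' e => hJ.comap_eq hJ e
    obtain ⟨hZJ, hclJ, hcutJ⟩ := idealSub_props hX hp hps hJi
    have hle : I ≤ J := (factor_iff_le hZ' hp hps hcl hcut hJ).1 ⟨i', rfl⟩
    obtain ⟨k, hk⟩ := (factor_iff_le hZ' hp hps hclJ hcutJ hJ).2 le_rfl
    obtain ⟨k', hk'⟩ := (factor_iff_le hZJ hp hps hj hJ hcutJ).2 le_rfl
    have := mono_of_closedImmersion hj
    have hkk : IsIso k := ⟨k', (cancel_mono j).1 (by rw [Category.assoc, hk', hk, Category.id_comp]),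
      (cancel_mono (idealSubι p J)).1 (by rw [Category.assoc, hk, hk', Category.id_comp])⟩
    have hlt : I < J := hle.lt_of_ne fun e => hne (by
      subst e
      have : k = i' := (cancel_mono (idealSubι p I)).1 hk
      exact this ▸ hkk)
    by_contra hn
    refine hmax J ⟨hJi, fun hr => hn ?_⟩ hlt
    obtain ⟨T, ⟨ρ⟩⟩ := isRepresentable_iff_exists_iso.1 hr
    exact isRepresentable_iff_exists_iso.2 ⟨T, ⟨ρ ≪≫ (asIso k).symm⟩⟩
  refine ⟨_, _, hZ, hcl, hIns, ?_⟩
  let X₁ : Space S := ⟨idealSub p I, hZ⟩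
  have hsub : ∀ T : Set (Points X₁.obj), IsClosed T → T ≠ Set.univ → ∃ (W : Over S) (i : (yon S).obj W ⟶ X₁.obj),
      RepWith @IsClosedImmersion i ∧ Set.range (Points.map i) = T := by
    intro T hT hne
    obtain ⟨Z, i, hZ', hi⟩ := exists_isRedInduced hZ hT
    have hni : ¬ IsIso i := fun h => by
      refine hne (hi.2.1 ▸ Set.range_eq_univ.2 fun x => ⟨Points.map (inv i) x, ?_⟩)
      rw [← Points.map_comp, IsIso.inv_hom_id, Points.map_id]
    obtain ⟨W, ⟨e⟩⟩ := isRepresentable_iff_exists_iso.1 (hmin Z i hZ' hi.1 hni)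
    refine ⟨W, e.hom ≫ i, repWith_comp (repWith_of_isIso _) hi.1, ?_⟩
    refine (range_map_subset_of_factor (g := e.hom) rfl).trans_eq hi.2.1 |>.antisymm ?_
    exact hi.2.1.symm.le.trans (range_map_subset_of_factor (g := e.inv) (by rw [Iso.inv_hom_id_assoc]))
  obtain ⟨Z, i, hZ', hi⟩ := exists_isRedInduced hZ (isClosed_univ (X := Points X₁.obj))
  haveI : IsIso i := by
    by_contra h
    exact hIns (Groth.Agent.S10045.result S X₁ ⟨Z, hZ'⟩ (ObjectProperty.homMk i) hi (hmin Z i hZ' hi.1 h))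
  have hred : IsReducedSp X₁.obj := by
    obtain ⟨W, q, hq, hqs, hW⟩ := hi.2.2
    exact ⟨W, q ≫ i, repWith_comp hq (repWith_of_isIso i), repWith_comp hqs (repWith_of_isIso i), hW⟩
  haveI : Nonempty (Points X₁.obj) := by
    by_contra h
    obtain ⟨X', j, hj, hX', -⟩ := exists_largest_open_subscheme X₁
    haveI := Groth.Agent.H13AlgSp.ThickFlat.isIso_of_openImmersion_surjective X₁.property hj (fun x => (h ⟨x⟩).elim)
    obtain ⟨T, ⟨e⟩⟩ := isRepresentable_iff_exists_iso.1 hX'
    exact hIns (isRepresentable_iff_exists_iso.2 ⟨T, ⟨e ≪≫ asIso j.hom⟩⟩)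
  haveI : PreirreducibleSpace (Points X₁.obj) := ⟨isPreirreducible_iff_isClosed_union_isClosed.2
    fun A B hA hB hAB => by
      by_contra hn
      simp only [not_or, Set.univ_subset_iff] at hn
      obtain ⟨TY, iY, hY, rY⟩ := hsub A hA hn.1
      obtain ⟨TZ, iZ, hZ'', rZ⟩ := hsub B hB hn.2
      exact hIns (TwoClosed.isRepresentable_of_two_closed X₁ hred hY hZ''
        (by rw [rY, rZ]; exact Set.univ_subset_iff.1 hAB))⟩
  exact ⟨hred, ({ toNonempty := inferInstance } : IrreducibleSpace (Points X₁.obj))⟩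

end Groth.Agent.H29SpaceCurve
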