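import Groth.Agent.H29SpaceCurve.AffineMap
import Groth.Agent.H13AlgSp.CodimZeroScheme
import Groth.Agent.H12AlgSp.LQFScheme2
import Groth.Agent.H12AlgSp.DecentSeparated
import Groth.Agent.H12AlgSp.OpenScheme
import Groth.Agent.H13AlgSp.FibreRed
import Groth.Agent.H29SpaceCurve.Minimal

/-!
# Separated algebraic spaces of dimension one over an algebraically closed field are schemes
-/

set_option autoImplicit false
set_option linter.style.haveILetI false
set_option backward.isDefEq.respectTransparency false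

universe u

open CategoryTheory CategoryTheory.Limits AlgebraicGeometry Opposite TopologicalSpace Polynomial
open AlgSp Groth.Agent.H12AlgSp Groth.Agent.H13AlgSp

namespace Groth.Agent.H29SpaceCurve

variable {k : Type u} [Field k] [IsAlgClosed k]

/-- `Spec` of a `k`-algebra, over the base through a point `t₀` with residue field `k`. -/
noncomputable abbrev specOver {S : Scheme.{u}} (t₀ : Spec (CommRingCat.of k) ⟶ S) (P : Type u) [CommRing P]
    [Algebra k P] : Over S :=
  Over.mk (Spec.map (CommRingCat.ofHom (algebraMap k P)) ≫ t₀)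

/-- The structure morphism of `specOver` to the point. -/
noncomputable abbrev toPoint {S : Scheme.{u}} (t₀ : Spec (CommRingCat.of k) ⟶ S) (P : Type u) [CommRing P]
    [Algebra k P] : specOver t₀ P ⟶ Over.mk t₀ :=
  Over.homMk (Spec.map (CommRingCat.ofHom (algebraMap k P)))

theorem isRepresentable_of_lqf_map {S : Scheme.{u}} {X : Sp S} (hX : IsAlgSpace X)
    {T U : Over S} {a : (yon S).obj U ⟶ X} (ha : RepWith @Etale a) (has : RepWith @Surjective a)
    (π : X ⟶ (yon S).obj T) (hsep : IsSeparatedMor π) (c : U ⟶ T) (hc : a ≫ π = (yon S).map c) [LocallyQuasiFinite c.left]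
    [LocallyOfFiniteType c.left] : X.obj.IsRepresentable :=
  isRepresentable_of_lqf_separated hX hsep
    (locP_of_one_chart (etLocal_inf etLocal_lqf etLocal_lft) c ha has (b := 𝟙 _) (repWith_of_isIso _)
      (by rw [hc, Category.comp_id]) ⟨‹_›, ‹_›⟩)

theorem eq_of_ofPt_eq_of_mono {S : Scheme.{u}} {X : Sp S} {Y : Over S} (j : (yon S).obj Y ⟶ X) [Mono j]
    {u v : Y.left} (h : Points.ofPt j u = Points.ofPt j v) : u = v := by
  have sq : IsPullback ((yon S).map (𝟙 Y)) ((yon S).map (𝟙 Y)) j j := by
    simp only [CategoryTheory.Functor.map_id]; exact IsKernelPair.id_of_mono j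
  obtain ⟨r, h1, h2⟩ := exists_arrow_of_ofPt_eq sq h
  exact h1.symm.trans h2

/-- A separated irreducible algebraic space with a reduced affine chart of dimension at most one, of finite
type over an algebraically closed field, is a scheme. -/
theorem isRepresentable_of_irreducible {P : Type u} [CommRing P] [Algebra k P] [Algebra.FiniteType k P]
    [_root_.IsReduced P] [Ring.KrullDimLE 1 P] {S : Scheme.{u}} {t₀ : Spec (CommRingCat.of k) ⟶ S}
    {X : Sp S} (hX : IsAlgSpace X) (π₀ : X ⟶ (yon S).obj (Over.mk t₀)) (hsep : IsSeparatedMor π₀)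
    [IrreducibleSpace (Points X)] (a : (yon S).obj (specOver t₀ P) ⟶ X)
    (ha : RepWith @Etale a) (has : RepWith @Surjective a)
    (hπa : a ≫ π₀ = (yon S).map (toPoint t₀ P)) : X.obj.IsRepresentable := by
  classical
  let U : Over S := specOver t₀ P
  let u₁ : U ⟶ Over.mk t₀ := toPoint t₀ P
  haveI : IsAffine U.left := inferInstanceAs (IsAffine (Spec (CommRingCat.of P)))
  haveI : IsNoetherianRing P := Algebra.FiniteType.isNoetherianRing k P
  haveI : IsNoetherian U.left := inferInstanceAs (IsNoetherian (Spec (CommRingCat.of P)))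
  haveI : LocallyOfFiniteType u₁.left :=
    (HasRingHomProperty.Spec_iff (P := @LocallyOfFiniteType)).2 (RingHom.finiteType_algebraMap.2 ‹_›)
  haveI : AlgebraicGeometry.IsReduced U.left := inferInstanceAs (AlgebraicGeometry.IsReduced (Spec (CommRingCat.of P)))
  haveI : IsAffineHom u₁.left := inferInstanceAs (IsAffineHom (Spec.map _))
  have haqc : RepWith @QuasiCompact a := repWith_of_comp a π₀
    (repWith_le (fun _ _ f (hf : IsClosedImmersion f) => haveI := hf; (inferInstance : QuasiCompact f)) hsep)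
    (by rw [hπa]; exact (MorphismProperty.relative_map_iff (F := yon S)).2 (inferInstance : QuasiCompact u₁.left))
  obtain ⟨R, s, t', sq⟩ := ha.1 a
  obtain ⟨t, rfl⟩ := (yon S).map_surjective t'
  have hopen : ∀ O : U.left.Opens, IsOpen (Points.ofPt a '' (O : Set U.left)) := fun O =>
    isOpenMap_ofPt_of_repWith etale_le_universallyOpen ha _ O.2
  have hsurj := surjective_ofPt_of_repWith le_rfl has
  haveI : Nonempty U.left := by
    obtain ⟨x⟩ := (inferInstance : Nonempty (Points X))
    exact ⟨(hsurj x).choose⟩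
  -- an affine open subscheme of `X`
  obtain ⟨u₀, hu₀⟩ : ∃ u, u ∈ genericPoints U.left := by
    obtain ⟨u⟩ := (inferInstance : Nonempty U.left)
    exact ⟨(isIrreducible_irreducibleComponent (x := u)).genericPoint, by
      show closure {_} ∈ irreducibleComponents U.left
      rw [IsIrreducible.closure_genericPoint _ isClosed_irreducibleComponent]
      exact irreducibleComponent_mem_irreducibleComponents u⟩
  obtain ⟨W, Y, μ, hμ, hW, huW⟩ :=
    exists_open_scheme_at_generic hX ha sq (haqc.2 a _ s sq) hu₀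
  let j' : (yon S).obj Y ⟶ X := μ ≫ openSubι W
  have hj' : RepWith @IsOpenImmersion j' := repWith_comp (repWith_of_isIso μ) (repWith_openSubι hW)
  obtain ⟨y₀, -⟩ : ∃ y, Points.ofPt j' y = Points.ofPt a u₀ := by
    have h1 : Points.ofPt a u₀ ∈ Set.range (Points.map j') := by
      obtain ⟨x, hx⟩ := (range_openSubι hX W).ge huW
      exact ⟨Points.map (inv μ) x, by rw [← Points.map_comp, IsIso.inv_hom_id_assoc, hx]⟩
    rw [range_map_yon] at h1
    exact h1
  obtain ⟨Y₁, hY₁, hy₁, -⟩ := exists_isAffineOpen_mem_and_subset (X := Y.left) (x := y₀) (U := ⊤) trivial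
  haveI : IsAffine (Y₁ : Scheme.{u}) := hY₁
  let Y₀ : Over S := Over.mk (Y₁.ι ≫ Y.hom)
  let iY : Y₀ ⟶ Y := Over.homMk Y₁.ι
  haveI : IsOpenImmersion iY.left := inferInstanceAs (IsOpenImmersion Y₁.ι)
  let j : (yon S).obj Y₀ ⟶ X := (yon S).map iY ≫ j'
  have hj : RepWith @IsOpenImmersion j :=
    repWith_comp ((MorphismProperty.relative_map_iff (F := yon S)).2 (inferInstance : IsOpenImmersion iY.left)) hj'
  haveI : Mono j := mono_of_openImmersion hj
  have hjopen : IsOpen (Set.range (Points.map j)) :=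
    (isOpenMap_map_of_repWith (fun _ _ f (_ : IsOpenImmersion f) => inferInstance) hj).isOpen_range
  -- its preimage in the chart
  obtain ⟨V, v, fst, sqV⟩ := hj.1 a
  obtain ⟨g, rfl⟩ := (yon S).map_surjective fst
  haveI : IsOpenImmersion v.left := hj.2 _ _ _ sqV
  haveI : Etale g.left := ha.2 _ _ _ sqV.flip
  haveI : Surjective g.left := has.2 _ _ _ sqV.flip
  have hrange : Points.ofPt a ⁻¹' Set.range (Points.map j) = Set.range v.left := preimage_ofPt_range sqV
  have hdense : Dense (Set.range v.left) := by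
    rw [dense_iff_inter_open]
    intro O hO hne
    obtain ⟨x, ⟨u, huO, rfl⟩, hxj⟩ := nonempty_preirreducible_inter (hopen ⟨O, hO⟩) hjopen (hne.image _)
      ⟨_, Points.ofScheme Y₀ (⟨y₀, hy₁⟩ : Y₁), rfl⟩
    exact ⟨u, huO, hrange.le hxj⟩
  haveI : AlgebraicGeometry.IsReduced V.left := isReduced_of_isOpenImmersion v.left
  haveI : AlgebraicGeometry.IsReduced Y₀.left := Groth.Agent.H13AlgSp.FibreRed.isReduced_of_flat_surjective g.left
  haveI : Nonempty Y₀.left := ⟨(⟨y₀, hy₁⟩ : Y₁)⟩
  haveI : PreirreducibleSpace Y₀.left := ⟨by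
    rintro O₁ O₂ hO₁ hO₂ ⟨z₁, -, hz₁⟩ ⟨z₂, -, hz₂⟩
    have hop : ∀ O, IsOpen O → IsOpen (Points.ofPt j '' O) := fun O hO =>
      isOpenMap_ofPt_of_repWith (fun _ _ f (_ : IsOpenImmersion f) => inferInstance) hj _ hO
    obtain ⟨_, ⟨w₁, hw₁, e⟩, w₂, hw₂, rfl⟩ := nonempty_preirreducible_inter (hop _ hO₁) (hop _ hO₂)
      ⟨_, z₁, hz₁, rfl⟩ ⟨_, z₂, hz₂, rfl⟩
    exact ⟨w₁, trivial, hw₁, (eq_of_ofPt_eq_of_mono j e).symm ▸ hw₂⟩⟩
  haveI : IrreducibleSpace Y₀.left := ⟨inferInstance⟩
  haveI : IsIntegral Y₀.left := isIntegral_of_irreducibleSpace_of_isReduced _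
  haveI : IsAffine Y₀.left := hY₁
  let A := Γ(Y₀.left, ⊤)
  obtain ⟨w₀, hw₀⟩ := (yon S).map_surjective (j ≫ π₀)
  letI : Algebra k A := (Spec.preimage (Y₀.left.isoSpec.inv ≫ w₀.left)).hom.toAlgebra
  have hYA : Spec.map (CommRingCat.ofHom (algebraMap k A)) = Y₀.left.isoSpec.inv ≫ w₀.left :=
    Spec.map_preimage (Y₀.left.isoSpec.inv ≫ w₀.left)
  have hgw : g ≫ w₀ = v ≫ u₁ := (yon S).map_injective (by
    rw [Functor.map_comp, Functor.map_comp, hw₀, ← Category.assoc, sqV.w, Category.assoc, hπa])
  by_cases hA : IsField A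
  · -- the chart is finite
    haveI : Subsingleton Y₀.left := by
      letI := hA.toField
      haveI : Subsingleton (Spec Γ(Y₀.left, ⊤)) := inferInstanceAs (Subsingleton (PrimeSpectrum A))
      exact Y₀.left.isoSpec.hom.homeomorph.injective.subsingleton
    haveI : Finite V.left := by
      haveI : LocallyQuasiFinite g.left := lqf_of_etale g.left
      haveI : CompactSpace V.left := by
        have : NoetherianSpace U.left := inferInstance
        exact isCompact_univ_iff.1 (v.left.isOpenEmbedding.isEmbedding.isCompact_iff.2 (NoetherianSpace.isCompact _))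
      haveI : QuasiCompact g.left := (quasiCompact_iff_compactSpace _).2 inferInstance
      obtain ⟨y⟩ := (inferInstance : Nonempty Y₀.left)
      exact Set.finite_univ_iff.1 ((g.left.finite_preimage_singleton y).subset fun x _ => Subsingleton.elim (g.left x) y)
    haveI : JacobsonSpace (Over.mk t₀).left := inferInstanceAs (JacobsonSpace (Spec (CommRingCat.of k)))
    haveI : JacobsonSpace U.left := LocallyOfFiniteType.jacobsonSpace u₁.left
    haveI : JacobsonSpace V.left := JacobsonSpace.of_isOpenEmbedding v.left.isOpenEmbedding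
    haveI : Finite U.left := by
      have hfin : (Set.range v.left).Finite := Set.finite_range _
      have hclosed : IsClosed (Set.range v.left) := by
        rw [← Set.biUnion_of_singleton (Set.range v.left)]
        refine hfin.isClosed_biUnion fun x hx => ?_
        obtain ⟨z, rfl⟩ := hx
        have hz : z ∈ closedPoints V.left := show IsClosed ({z} : Set V.left) from isClosed_discrete _
        rw [← v.left.isOpenEmbedding.preimage_closedPoints] at hz
        exact hz
      exact Set.finite_univ_iff.1 (by rw [← hdense.closure_eq, hclosed.closure_eq]; exact hfin)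
    haveI : LocallyQuasiFinite u₁.left := LocallyQuasiFinite.of_finite_preimage_singleton _ fun _ => Set.toFinite _
    exact isRepresentable_of_lqf_map hX ha has π₀ hsep u₁ hπa
  -- open subschemes around all closed points
  let Vo : (Spec (CommRingCat.of P)).Opens := v.left.opensRange
  let φ : Vo.toScheme ⟶ Spec (CommRingCat.of A) :=
    v.left.isoOpensRange.inv ≫ g.left ≫ Y₀.left.isoSpec.hom
  haveI : Flat φ := inferInstance
  have hφ : φ ≫ Spec.map (CommRingCat.ofHom (algebraMap k A)) =
      Vo.ι ≫ Spec.map (CommRingCat.ofHom (algebraMap k P)) := by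
    rw [hYA]
    simp only [φ, Category.assoc, Iso.hom_inv_id_assoc]
    rw [show g.left ≫ w₀.left = v.left ≫ u₁.left from congrArg (fun f => f.left) hgw, ← Category.assoc,
      v.left.isoOpensRange_inv_comp]
    rfl
  have key : ∀ q : PrimeSpectrum P, q.asIdeal.IsMaximal → ∃ (Z : Over S) (jz : (yon S).obj Z ⟶ X),
      RepWith @IsOpenImmersion jz ∧ Points.ofPt a (q : U.left) ∈ Set.range (Points.map jz) := by
    intro q hq
    obtain ⟨N₀, D, i, j₁, j₂, c, hi, hj₁, hij, hdom, hqi, hclqf, hclft, hck, hagree⟩ :=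
      exists_map_affineLine hA Vo hdense φ hφ q
    haveI := hi; haveI := hj₁; haveI := hdom; haveI := hclqf; haveI := hclft
    let N : Over S := Over.mk (i ≫ U.hom)
    let iN : N ⟶ U := Over.homMk i
    let T : Over S := Over.mk (Spec.map (CommRingCat.ofHom (C : k →+* k[X])) ≫ t₀)
    haveI : IsAffine T.left := inferInstanceAs (IsAffine (Spec (CommRingCat.of k[X])))
    let rT : T ⟶ Over.mk t₀ := Over.homMk (Spec.map (CommRingCat.ofHom (C : k →+* k[X])))
    let cN : N ⟶ T := Over.homMk c (by
      show c ≫ Spec.map _ ≫ t₀ = i ≫ Spec.map _ ≫ t₀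
      rw [reassoc_of% hck])
    let aN : (yon S).obj N ⟶ X := (yon S).map iN ≫ a
    haveI : Etale iN.left := inferInstanceAs (Etale i)
    have haN : RepWith @Etale aN :=
      repWith_comp ((MorphismProperty.relative_map_iff (F := yon S)).2 (inferInstance : Etale iN.left)) ha
    let Wq : Set (Points X) := Set.range (Points.ofPt aN)
    have hWq : IsOpen Wq := (isOpenMap_ofPt_of_repWith etale_le_universallyOpen haN).isOpen_range
    obtain ⟨a', ha', ha'e, ha's, hpres⟩ :=
      exists_factor_presentation haN (repWith_openSubι hWq) (range_openSubι hX Wq)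
    obtain ⟨R', s', t'', sq'⟩ := haN.1 aN
    obtain ⟨t₁, rfl⟩ := (yon S).map_surjective t''
    obtain ⟨-, -, -, sq''⟩ := hpres R' s' t₁ sq'
    obtain ⟨hcol⟩ := nonempty_isColimit_of_atlas ha'e ha's sq''
    haveI : Etale s'.left := haN.2 _ _ _ sq'
    haveI : Etale t₁.left := haN.2 _ _ _ sq'.flip
    haveI : AlgebraicGeometry.IsReduced N₀ := isReduced_of_isOpenImmersion i
    haveI : AlgebraicGeometry.IsReduced N.left := ‹AlgebraicGeometry.IsReduced N₀›
    haveI : AlgebraicGeometry.IsReduced R'.left := Groth.Agent.H13AlgSp.isReduced_of_smooth_mor s'.left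
    have hagree' : s' ≫ cN = t₁ ≫ cN := by
      let O : R'.left.Opens := (s'.left ⁻¹ᵁ j₁.opensRange) ⊓ (t₁.left ⁻¹ᵁ j₁.opensRange)
      have hOd : Dense (O : Set R'.left) := by
        have h1 : Dense (j₁.opensRange : Set N₀) := hdom.denseRange
        exact (h1.preimage s'.left.isOpenMap).inter_of_isOpen_left (h1.preimage t₁.left.isOpenMap)
          (s'.left ⁻¹ᵁ j₁.opensRange).2
      haveI : IsDominant O.ι := ⟨by rw [DenseRange, Scheme.Opens.range_ι]; exact hOd⟩
      let zs : O.toScheme ⟶ D := IsOpenImmersion.lift j₁ (O.ι ≫ s'.left) (by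
        rintro _ ⟨x, rfl⟩; exact x.2.1)
      let zt : O.toScheme ⟶ D := IsOpenImmersion.lift j₁ (O.ι ≫ t₁.left) (by
        rintro _ ⟨x, rfl⟩; exact x.2.2)
      have hzs : zs ≫ j₁ = O.ι ≫ s'.left := IsOpenImmersion.lift_fac _ _ _
      have hzt : zt ≫ j₁ = O.ι ≫ t₁.left := IsOpenImmersion.lift_fac _ _ _
      let O' : Over S := Over.mk (O.ι ≫ R'.hom)
      let ιO : O' ⟶ R' := Over.homMk O.ι
      let dV : D ⟶ V.left := j₂ ≫ v.left.isoOpensRange.inv
      have hdV : dV ≫ v.left = j₁ ≫ i := by
        rw [hij, Category.assoc, v.left.isoOpensRange_inv_comp]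
      have hover : ∀ (z : O.toScheme ⟶ D) (r : R' ⟶ N), z ≫ j₁ = O.ι ≫ r.left →
          (z ≫ dV) ≫ V.hom = O'.hom := fun z r hz => by
        rw [← Over.w v, Category.assoc, reassoc_of% hdV, reassoc_of% hz]
        exact congrArg (O.ι ≫ ·) (Over.w r)
      let ws : O' ⟶ V := Over.homMk (zs ≫ dV) (hover zs s' hzs)
      let wt : O' ⟶ V := Over.homMk (zt ≫ dV) (hover zt t₁ hzt)
      have hws : ws ≫ v = ιO ≫ s' ≫ iN := Over.OverMorphism.ext (by
        show (zs ≫ dV) ≫ v.left = O.ι ≫ s'.left ≫ i
        rw [Category.assoc, hdV, reassoc_of% hzs])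
      have hwt : wt ≫ v = ιO ≫ t₁ ≫ iN := Over.OverMorphism.ext (by
        show (zt ≫ dV) ≫ v.left = O.ι ≫ t₁.left ≫ i
        rw [Category.assoc, hdV, reassoc_of% hzt])
      have hwg : ws ≫ g = wt ≫ g := by
        refine (yon S).map_injective ((cancel_mono j).1 ?_)
        simp only [Functor.map_comp, Category.assoc, sqV.w]
        rw [← (yon S).map_comp_assoc, hws, ← (yon S).map_comp_assoc, hwt]
        simp only [Functor.map_comp, Category.assoc]
        rw [show (yon S).map iN ≫ a = aN from rfl, sq'.w]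
      have hφe : dV ≫ g.left ≫ Y₀.left.isoSpec.hom = j₂ ≫ φ := by simp [dV, φ]
      refine Over.OverMorphism.ext (ext_of_isDominant O.ι ?_)
      show O.ι ≫ s'.left ≫ c = O.ι ≫ t₁.left ≫ c
      rw [← reassoc_of% hzs, ← reassoc_of% hzt]
      refine hagree _ zs zt ?_
      have h2 := congrArg (fun f : O' ⟶ Y₀ => f.left ≫ Y₀.left.isoSpec.hom) hwg
      simp only [Over.comp_left] at h2
      rw [← hφe]
      simpa [ws, wt] using h2
    let π : openSub Wq ⟶ (yon S).obj T :=
      Cofork.IsColimit.desc hcol ((yon S).map cN) (by rw [← Functor.map_comp, ← Functor.map_comp, hagree'])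
    have hπ : a' ≫ π = (yon S).map cN := Cofork.IsColimit.π_desc' hcol _ _
    haveI : LocallyQuasiFinite cN.left := hclqf
    haveI : LocallyOfFiniteType cN.left := hclft
    haveI := epi_of_etale_surjective ha'e ha's
    have hπ₀ : π ≫ (yon S).map rT = openSubι Wq ≫ π₀ := by
      rw [← cancel_epi a', reassoc_of% hπ, ← Category.assoc a', ha', ← Functor.map_comp]
      show _ = ((yon S).map iN ≫ a) ≫ π₀
      rw [Category.assoc, hπa, ← Functor.map_comp]
      exact congrArg (yon S).map (Over.OverMorphism.ext hck)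
    have hrep : (openSub Wq).obj.IsRepresentable :=
      isRepresentable_of_lqf_map (isAlgSpace_of_representable _ (repWith_openSubι hWq).1 hX) ha'e ha's π
        (isSeparatedMor_of_comp (g := (yon S).map rT)
          (hπ₀ ▸ isSeparatedMor_comp (isSeparatedMor_of_mono (openSubι Wq)) hsep)) cN hπ
    obtain ⟨Z, ⟨e⟩⟩ := isRepresentable_iff_exists_iso.1 hrep
    refine ⟨Z, e.hom ≫ openSubι Wq, repWith_comp (repWith_of_isIso _) (repWith_openSubι hWq), ?_⟩
    obtain ⟨z, hz⟩ := hqi
    obtain ⟨x, hx⟩ := (range_openSubι hX Wq).ge (⟨z, rfl⟩ : Points.ofPt aN z ∈ Wq)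
    refine ⟨Points.map e.inv x, ?_⟩
    rw [← Points.map_comp, Iso.inv_hom_id_assoc, hx, ofPt_map]
    exact congrArg (Points.ofPt a) hz
  choose Z jz hjz hmem using key
  obtain ⟨GT, ν, hν⟩ := exists_iso_of_openCover (I := {q : PrimeSpectrum P // q.asIdeal.IsMaximal})
    (fun q => Z q.1 q.2) (fun q => jz q.1 q.2) (fun q => hjz q.1 q.2) fun T y x => by
      obtain ⟨u, hu⟩ := hsurj (Points.ofPt y x)
      obtain ⟨M, hM, hle⟩ := Ideal.exists_le_maximal _ (u : PrimeSpectrum P).2.ne_top
      refine ⟨⟨⟨M, hM.isPrime⟩, hM⟩, ?_⟩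
      rw [← hu]
      have hopen : IsOpen (Points.ofPt a ⁻¹' Set.range (Points.map (jz ⟨M, hM.isPrime⟩ hM))) :=
        ((isOpenMap_map_of_repWith (fun _ _ f (_ : IsOpenImmersion f) => inferInstance) (hjz _ hM)).isOpen_range).preimage
          (Points.continuous_ofPt a)
      have hspec : (u : PrimeSpectrum P) ⤳ (⟨M, hM.isPrime⟩ : PrimeSpectrum P) :=
        (PrimeSpectrum.le_iff_specializes (u : PrimeSpectrum P) ⟨M, hM.isPrime⟩).1 hle
      exact Specializes.mem_open (X := U.left) hspec hopen (hmem ⟨M, hM.isPrime⟩ hM)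
  exact (representableByOfIso (asIso ν)).isRepresentable

/-- **A separated algebraic space of finite type and dimension at most one over an algebraically closed
field is a scheme.**  The base `S` is arbitrary: the space lives over a point `t₀` of `S` with residue field `k`. -/
theorem isRepresentable_of_dim_le_one {S : Scheme.{u}} {t₀ : Spec (CommRingCat.of k) ⟶ S} {X : Sp S}
    (hX : IsAlgSpace X) (π₀ : X ⟶ (yon S).obj (Over.mk t₀)) (hsep : IsSeparatedMor π₀) {U : Over S}
    [IsAffine U.left] (u₀ : U ⟶ Over.mk t₀) [LocallyOfFiniteType u₀.left] (hdim : topologicalKrullDim U.left ≤ 1)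
    (a : (yon S).obj U ⟶ X) (ha : RepWith @Etale a) (has : RepWith @Surjective a)
    (hπa : a ≫ π₀ = (yon S).map u₀) : X.obj.IsRepresentable := by
  by_contra hns
  haveI : IsLocallyNoetherian (Over.mk t₀).left := inferInstanceAs (IsLocallyNoetherian (Spec (CommRingCat.of k)))
  haveI : IsLocallyNoetherian U.left := LocallyOfFiniteType.isLocallyNoetherian u₀.left
  haveI : IsNoetherian U.left := ⟨⟩
  obtain ⟨Z, i, hZ', hi, hZ, hred, hirr⟩ := exists_irreducible_nonscheme hX ha has hns
  haveI := hirr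
  obtain ⟨V, v, b, sq⟩ := hi.1 a
  haveI : IsClosedImmersion v.left := hi.2 _ _ _ sq
  haveI : IsAffine V.left := isAffine_of_isAffineHom v.left
  have hb : RepWith @Etale b := repWith_of_isPullback sq.flip ha
  have hbs : RepWith @Surjective b := repWith_of_isPullback sq.flip has
  haveI : AlgebraicGeometry.IsReduced V.left := Groth.Agent.H13AlgSp.FibreRed.isReduced_chart hZ' hred hb
  let w : V.left ⟶ Spec (CommRingCat.of k) := v.left ≫ u₀.left
  haveI : LocallyOfFiniteType w := inferInstanceAs (LocallyOfFiniteType (v.left ≫ u₀.left))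
  let P := Γ(V.left, ⊤)
  letI : Algebra k P := (Spec.preimage (V.left.isoSpec.inv ≫ w)).hom.toAlgebra
  have hVP : Spec.map (CommRingCat.ofHom (algebraMap k P)) = V.left.isoSpec.inv ≫ w :=
    Spec.map_preimage (V.left.isoSpec.inv ≫ w)
  haveI : Algebra.FiniteType k P := RingHom.finiteType_algebraMap.1
    ((HasRingHomProperty.Spec_iff (P := @LocallyOfFiniteType) (φ := CommRingCat.ofHom (algebraMap k P))).1
      (hVP ▸ inferInstance))
  haveI : _root_.IsReduced P := IsReduced.component_reduced ⊤
  haveI : Ring.KrullDimLE 1 P := Ring.krullDimLE_iff.2 <| by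
    rw [← PrimeSpectrum.topologicalKrullDim_eq_ringKrullDim]
    exact (Topology.IsInducing.topologicalKrullDim_le
      (v.left.isClosedEmbedding.isInducing.comp V.left.isoSpec.inv.homeomorph.isInducing)).trans hdim
  have hV : V.hom = w ≫ t₀ := by
    rw [← Over.w v, ← Over.w u₀]; exact (Category.assoc _ _ _).symm
  let e : specOver t₀ P ≅ V := Over.isoMk V.left.isoSpec.symm (by
    show V.left.isoSpec.inv ≫ V.hom = Spec.map _ ≫ t₀
    rw [hVP, hV]; simp only [w, Category.assoc])
  haveI : Mono i := mono_of_repWith (fun _ _ f (hf : IsClosedImmersion f) => haveI := hf; (inferInstance : Mono f)) hi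
  refine hZ (isRepresentable_of_irreducible hZ' (i ≫ π₀) (isSeparatedMor_comp (isSeparatedMor_of_mono i) hsep)
    ((yon S).map e.hom ≫ b) (repWith_comp (repWith_of_isIso _) hb) (repWith_comp (repWith_of_isIso _) hbs) ?_)
  rw [Category.assoc, ← Category.assoc b, sq.w, Category.assoc, hπa, ← Functor.map_comp, ← Functor.map_comp]
  exact congrArg (yon S).map (Over.OverMorphism.ext hVP.symm)

end Groth.Agent.H29SpaceCurve
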