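import Groth.Agent.H29SpaceCurve.RegularFunction

/-!
# Functions on an affine curve out of a function field of a flat quotient
-/

universe u

namespace Groth.Agent.H29SpaceCurve

variable {k : Type u} [Field k] [IsAlgClosed k] {P A : Type u} [CommRing P] [Algebra k P] [CommRing A]
  [IsDomain A] [Algebra k A]

/-- Near a rational point of `P` some nonconstant fraction of elements of `A` is regular. -/
theorem exists_chart_function [IsNoetherianRing P] [_root_.IsReduced P] [Ring.KrullDimLE 1 P]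
    (h : P) (hh : ∀ p ∈ minimalPrimes P, h ∉ p) (γ : A →ₐ[k] Localization.Away h) (hγ : γ.toRingHom.Flat)
    (hA : ¬ IsField A) (q : Ideal P) [q.IsMaximal] (hq : ∀ z : P, ∃ c : k, z - algebraMap k P c ∈ q) :
    ∃ (d e β α : P) (a b : A) (n : ℕ), d ∉ q ∧ (∀ p ∈ minimalPrimes P, β ∉ p) ∧
      γ b = IsLocalization.mk' (Localization.Away h) β (⟨h ^ n, n, rfl⟩ : Submonoid.powers h) ∧
      γ a = IsLocalization.mk' (Localization.Away h) α (⟨h ^ n, n, rfl⟩ : Submonoid.powers h) ∧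
      e * β = d * α ∧ ∀ p ∈ minimalPrimes P, d ∉ p → ∀ c : k, e - algebraMap k P c * d ∉ p := by
  classical
  haveI : Finite (minimalPrimes P) := (minimalPrimes.finite_of_isNoetherianRing P).to_subtype
  haveI := Fintype.ofFinite (minimalPrimes P)
  haveI : ∀ p : minimalPrimes P, (p : Ideal P).IsPrime := fun p => Ideal.IsMinimalPrime.isPrime p.2
  have hother : ∀ s : Finset (minimalPrimes P), ∀ p : minimalPrimes P, p ∉ s →
      ∃ r : P, r ∉ (p : Ideal P) ∧ ∀ p' ∈ s, r ∈ (p' : Ideal P) := fun s p hp => by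
    have : ¬ s.inf (fun p' : minimalPrimes P => (p' : Ideal P)) ≤ (p : Ideal P) := by
      rw [Ideal.IsPrime.inf_le' inferInstance]
      rintro ⟨p', hp', hle⟩
      exact hp (Subtype.ext (le_antisymm hle (p.2.2 ⟨inferInstance, bot_le⟩ hle)) ▸ hp')
    obtain ⟨r, hr, hrp⟩ := SetLike.not_le_iff_exists.1 this
    exact ⟨r, hrp, fun p' hp' => Submodule.mem_finsetInf.1 hr p' hp'⟩
  have hzero : ∀ z : P, (∀ p : minimalPrimes P, z ∈ (p : Ideal P)) → z = 0 := fun z hz => by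
    have : z ∈ nilradical P := by
      rw [nilradical, ← Ideal.sInf_minimalPrimes, Submodule.mem_sInf]
      exact fun p hp => hz ⟨p, hp⟩
    rwa [nilradical_eq_zero, Ideal.zero_eq_bot, Ideal.mem_bot] at this
  -- numerators of nonzero elements of `A` avoid the minimal primes
  have hreg : ∀ (a : A) (α : P) (s : Submonoid.powers h), a ≠ 0 →
      γ a = IsLocalization.mk' (Localization.Away h) α s → ∀ p ∈ minimalPrimes P, α ∉ p := by
    intro a α s ha hα p hp hαp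
    obtain ⟨r, hr, hr'⟩ := hother (Finset.univ.erase ⟨p, hp⟩) ⟨p, hp⟩ (Finset.notMem_erase _ _)
    have h0 : α * r = 0 := hzero _ fun p' => by
      by_cases e : p' = ⟨p, hp⟩
      · rw [e]; exact Ideal.mul_mem_right _ p hαp
      · exact Ideal.mul_mem_left _ _ (hr' p' (Finset.mem_erase.2 ⟨e, Finset.mem_univ _⟩))
    letI := γ.toRingHom.toAlgebra
    haveI : Module.Flat A (Localization.Away h) := hγ
    have hsm : IsSMulRegular (Localization.Away h) a :=
      IsSMulRegular.of_flat (isRegular_iff_ne_zero.2 ha).left.isSMulRegular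
    have h1 : a • algebraMap P (Localization.Away h) r = a • (0 : Localization.Away h) := by
      rw [smul_zero, Algebra.smul_def, show algebraMap A (Localization.Away h) a = γ a from rfl, hα, mul_comm,
        ← IsLocalization.mk'_one (M := Submonoid.powers h) (Localization.Away h) r, ← IsLocalization.mk'_mul, mul_comm r α,
        h0, IsLocalization.mk'_zero]
    obtain ⟨⟨_, m, rfl⟩, hm⟩ := (IsLocalization.map_eq_zero_iff (Submonoid.powers h) _ r).1 (hsm h1)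
    haveI := Ideal.IsMinimalPrime.isPrime hp
    have : h ^ m * r ∈ p := by rw [hm]; exact p.zero_mem
    rcases Ideal.IsPrime.mem_or_mem inferInstance this with h2 | h2
    · exact hh p hp (Ideal.IsPrime.mem_of_pow_mem inferInstance m h2)
    · exact hr h2
  let O := Localization.AtPrime q
  have hfe : ∀ 𝔭 : minimalPrimes O, (𝔭 : Ideal O).comap (algebraMap P O) ∈ minimalPrimes P := fun 𝔭 => by
    haveI := Ideal.IsMinimalPrime.isPrime 𝔭.2
    refine ⟨⟨Ideal.IsPrime.comap _, bot_le⟩, fun p' hp' hle => ?_⟩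
    haveI := hp'.1
    have hd : Disjoint (q.primeCompl : Set P) (p' : Set P) := Set.disjoint_left.2 fun z hz hzp =>
      Ideal.IsPrime.ne_top inferInstance (Ideal.eq_top_of_isUnit_mem (I := (𝔭 : Ideal O)) (hle hzp : algebraMap P O z ∈ (𝔭 : Ideal O))
        (IsLocalization.map_units O (⟨z, hz⟩ : q.primeCompl)))
    have hp'' : (p'.map (algebraMap P O)).IsPrime := IsLocalization.isPrime_of_isPrime_disjoint q.primeCompl O p' hp'.1 hd
    have := 𝔭.2.2 ⟨hp'', bot_le⟩ (Ideal.map_le_iff_le_comap.2 hle)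
    exact le_of_le_of_eq (Ideal.comap_mono this)
      (IsLocalization.under_map_of_isPrime_disjoint q.primeCompl O hp'.1 hd)
  let L : minimalPrimes O → Type u := fun 𝔭 => FractionRing (O ⧸ (𝔭 : Ideal O))
  haveI : ∀ 𝔭 : minimalPrimes O, (𝔭 : Ideal O).IsPrime := fun 𝔭 => Ideal.IsMinimalPrime.isPrime 𝔭.2
  let g : ∀ 𝔭 : minimalPrimes O, P →+* L 𝔭 := fun 𝔭 => (algebraMap O (L 𝔭)).comp (algebraMap P O)
  have hg : ∀ 𝔭 z, g 𝔭 z = 0 ↔ algebraMap P O z ∈ (𝔭 : Ideal O) := fun 𝔭 z => by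
    show algebraMap O (L 𝔭) (algebraMap P O z) = 0 ↔ _
    rw [IsScalarTower.algebraMap_apply O (O ⧸ (𝔭 : Ideal O)) (L 𝔭),
      map_eq_zero_iff _ (IsFractionRing.injective (O ⧸ (𝔭 : Ideal O)) (L 𝔭)), Ideal.Quotient.algebraMap_eq,
      Ideal.Quotient.eq_zero_iff_mem]
  have hu : ∀ 𝔭, IsUnit (g 𝔭 h) := fun 𝔭 => isUnit_iff_ne_zero.2 fun h0 => hh _ (hfe 𝔭) ((hg 𝔭 h).1 h0)
  let ψ : ∀ 𝔭, Localization.Away h →+* L 𝔭 := fun 𝔭 => IsLocalization.Away.lift h (hu 𝔭)
  have hψ : ∀ 𝔭 z, ψ 𝔭 (algebraMap P _ z) = g 𝔭 z := fun 𝔭 z => IsLocalization.Away.lift_eq h (hu 𝔭) z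
  have hψ' : ∀ 𝔭 z (s : Submonoid.powers h), ψ 𝔭 (IsLocalization.mk' _ z s) * g 𝔭 s = g 𝔭 z := fun 𝔭 z s => by
    rw [← hψ, ← hψ, ← map_mul, IsLocalization.mk'_spec]
  let φ₀ : ∀ 𝔭, A →ₐ[k] L 𝔭 := fun 𝔭 =>
    { toRingHom := (ψ 𝔭).comp γ.toRingHom
      commutes' := fun c => by
        show ψ 𝔭 (γ (algebraMap k A c)) = _
        rw [γ.commutes, IsScalarTower.algebraMap_apply k P (Localization.Away h), hψ]
        show algebraMap O (L 𝔭) (algebraMap P O (algebraMap k P c)) = _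
        rw [← IsScalarTower.algebraMap_apply k P O, ← IsScalarTower.algebraMap_apply k O (L 𝔭)] }
  have hinj : ∀ 𝔭, Function.Injective (φ₀ 𝔭) := fun 𝔭 => (injective_iff_map_eq_zero _).2 fun a h0 => by
    by_contra ha
    obtain ⟨α, s, hαs⟩ := IsLocalization.exists_mk'_eq (Submonoid.powers h) (γ a)
    have h1 : ψ 𝔭 (γ a) = 0 := h0
    have h2 := hψ' 𝔭 α s
    rw [hαs, h1, zero_mul] at h2
    exact hreg a α s ha hαs.symm _ (hfe 𝔭) ((hg 𝔭 α).1 h2.symm)
  let K := FractionRing A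
  let φ : ∀ 𝔭, K →ₐ[k] L 𝔭 := fun 𝔭 => IsFractionRing.liftAlgHom (A := A) (hinj 𝔭)
  have hφ : ∀ 𝔭 a, φ 𝔭 (algebraMap A K a) = φ₀ 𝔭 a := fun 𝔭 a =>
    IsFractionRing.lift_algebraMap (g := (φ₀ 𝔭).toRingHom) (hinj 𝔭) a
  obtain ⟨t, ht⟩ : ∃ t : A, t ∉ (algebraMap k A).range := by
    by_contra hall
    push Not at hall
    refine hA ⟨exists_pair_ne A, mul_comm, fun {a} ha => ?_⟩
    obtain ⟨c, rfl⟩ := hall a
    exact ⟨algebraMap k A c⁻¹, by rw [← map_mul, mul_inv_cancel₀ (fun hc => ha (by rw [hc, map_zero])), map_one]⟩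
  have hresO : ∀ o : O, ∃ c : k, o - algebraMap k O c ∈ IsLocalRing.maximalIdeal O := fun o => by
    obtain ⟨z, s, rfl⟩ := IsLocalization.exists_mk'_eq q.primeCompl o
    obtain ⟨cz, hz⟩ := hq z
    obtain ⟨cs, hs⟩ := hq s
    have hcs : cs ≠ 0 := fun h0 => s.2 (by simpa [h0] using hs)
    have hzs : z - algebraMap k P (cz / cs) * s ∈ q := by
      have := sub_mem hz (q.mul_mem_left (algebraMap k P (cz / cs)) hs)
      convert this using 1
      rw [mul_sub, ← map_mul, div_mul_cancel₀ _ hcs]; ring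
    refine ⟨cz / cs, ?_⟩
    rw [← IsLocalization.AtPrime.mk'_mem_maximal_iff O q _ s] at hzs
    rw [IsScalarTower.algebraMap_apply k P O]
    convert hzs using 1
    rw [IsLocalization.eq_mk'_iff_mul_eq, sub_mul, IsLocalization.mk'_spec, map_sub, map_mul]
  haveI : Ring.KrullDimLE 1 O := Ring.krullDimLE_iff.2
    ((IsLocalization.AtPrime.ringKrullDim_eq_height q O).trans_le (Ideal.height_le_ringKrullDim_of_ne_top ‹q.IsMaximal›.ne_top) |>.trans (Ring.krullDimLE_iff.1 ‹_›))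
  haveI : _root_.IsReduced O := inferInstance
  obtain ⟨x, hx0, o, ho, hox⟩ := exists_regular_function hresO φ (algebraMap A K t) (by
    rintro ⟨c, hc⟩
    rw [IsScalarTower.algebraMap_apply k A K] at hc
    exact ht ⟨c, IsFractionRing.injective A K hc⟩)
  obtain ⟨a, b, hb, rfl⟩ := IsFractionRing.div_surjective A x
  have hb0 : b ≠ 0 := nonZeroDivisors.ne_zero hb
  have ha0 : a ≠ 0 := fun h0 => hx0 (by rw [h0, map_zero, zero_div])
  obtain ⟨e₀, d₀, rfl⟩ := IsLocalization.exists_mk'_eq q.primeCompl o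
  rw [IsLocalization.AtPrime.mk'_mem_maximal_iff O q] at ho
  obtain ⟨β₀, ⟨_, j, rfl⟩, hβ⟩ := IsLocalization.exists_mk'_eq (Submonoid.powers h) (γ b)
  obtain ⟨α₀, ⟨_, i, rfl⟩, hα⟩ := IsLocalization.exists_mk'_eq (Submonoid.powers h) (γ a)
  let α := α₀ * h ^ j
  let β := β₀ * h ^ i
  let sn : Submonoid.powers h := ⟨h ^ (i + j), i + j, rfl⟩
  have hγb : γ b = IsLocalization.mk' (Localization.Away h) β sn :=
    hβ.symm.trans (IsLocalization.mk'_eq_of_eq (by show h ^ j * (β₀ * h ^ i) = h ^ (i + j) * β₀; ring))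
  have hγa : γ a = IsLocalization.mk' (Localization.Away h) α sn :=
    hα.symm.trans (IsLocalization.mk'_eq_of_eq (by show h ^ i * (α₀ * h ^ j) = h ^ (i + j) * α₀; ring))
  obtain ⟨r, hrq, hr⟩ : ∃ r : P, r ∉ q ∧ ∀ p : minimalPrimes P, ¬ (p : Ideal P) ≤ q → r ∈ (p : Ideal P) := by
    choose w hw hwq using fun p : {p : minimalPrimes P // ¬ (p : Ideal P) ≤ q} => SetLike.not_le_iff_exists.1 p.2
    haveI := Fintype.ofFinite {p : minimalPrimes P // ¬ (p : Ideal P) ≤ q}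
    refine ⟨∏ p, w p, fun hmem => ?_, fun p hp => ?_⟩
    · obtain ⟨p, -, hp⟩ := (Ideal.IsPrime.prod_mem_iff (p := q)).1 hmem
      exact hwq p hp
    · rw [← Finset.mul_prod_erase _ _ (Finset.mem_univ (⟨p, hp⟩ : {p : minimalPrimes P // ¬ (p : Ideal P) ≤ q}))]
      exact Ideal.mul_mem_right _ _ (hw ⟨p, hp⟩)
  have heq : e₀ * r * β = (d₀ : P) * r * α := by
    rw [← sub_eq_zero]
    refine hzero _ fun p => ?_
    rw [show e₀ * r * β - (d₀ : P) * r * α = r * (e₀ * β - d₀ * α) by ring]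
    by_cases hpq : (p : Ideal P) ≤ q
    swap
    · exact Ideal.mul_mem_right _ _ (hr p hpq)
    refine Ideal.mul_mem_left _ _ ?_
    have hd : Disjoint (q.primeCompl : Set P) ((p : Ideal P) : Set P) := Set.disjoint_left.2 fun z hz hzp => hz (hpq hzp)
    haveI : ((p : Ideal P).map (algebraMap P O)).IsPrime := IsLocalization.isPrime_of_isPrime_disjoint q.primeCompl O p inferInstance hd
    have hback : ((p : Ideal P).map (algebraMap P O)).comap (algebraMap P O) = p :=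
      IsLocalization.under_map_of_isPrime_disjoint q.primeCompl O inferInstance hd
    obtain ⟨𝔭, h𝔭, hle⟩ := Ideal.exists_minimalPrimes_le (I := (⊥ : Ideal O)) (J := (p : Ideal P).map (algebraMap P O)) bot_le
    have hcm : 𝔭.comap (algebraMap P O) = p :=
      le_antisymm ((Ideal.comap_mono hle).trans hback.le)
        (p.2.2 ⟨Ideal.IsMinimalPrime.isPrime (hfe ⟨𝔭, h𝔭⟩), bot_le⟩ ((Ideal.comap_mono hle).trans hback.le))
    rw [← hcm, Ideal.mem_comap]
    refine (hg ⟨𝔭, h𝔭⟩ _).1 ?_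
    have h1 := hox ⟨𝔭, h𝔭⟩
    have hsb := hψ' ⟨𝔭, h𝔭⟩ β sn
    have hsa := hψ' ⟨𝔭, h𝔭⟩ α sn
    rw [← hγb] at hsb; rw [← hγa] at hsa
    have hbne : φ₀ ⟨𝔭, h𝔭⟩ b ≠ 0 := (map_ne_zero_iff _ (hinj _)).2 hb0
    rw [map_div₀, hφ, hφ, eq_div_iff hbne] at h1
    have h2 : algebraMap O (L ⟨𝔭, h𝔭⟩) (IsLocalization.mk' O e₀ d₀) * g ⟨𝔭, h𝔭⟩ d₀ = g ⟨𝔭, h𝔭⟩ e₀ := by
      show _ * algebraMap O _ (algebraMap P O d₀) = algebraMap O _ (algebraMap P O e₀)
      rw [← map_mul, IsLocalization.mk'_spec]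
    rw [map_sub, map_mul (g ⟨𝔭, h𝔭⟩) e₀ β, map_mul (g ⟨𝔭, h𝔭⟩) (d₀ : P) α, sub_eq_zero, ← h2, ← hsa, ← hsb,
      show ψ ⟨𝔭, h𝔭⟩ (γ a) = φ₀ ⟨𝔭, h𝔭⟩ a from rfl, ← h1, show ψ ⟨𝔭, h𝔭⟩ (γ b) = φ₀ ⟨𝔭, h𝔭⟩ b from rfl]
    ring
  refine ⟨(d₀ : P) * r, e₀ * r, β, α, a, b, i + j, fun hm => (Ideal.IsPrime.mem_or_mem inferInstance hm).elim d₀.2 hrq,
    hreg b β sn hb0 hγb, hγb, hγa, heq, fun p hp hdp c hc => ?_⟩
  ·
    haveI := Ideal.IsMinimalPrime.isPrime hp
    have hpq : p ≤ q := by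
      by_contra hn
      exact hdp (Ideal.mul_mem_left _ _ (hr ⟨p, hp⟩ hn))
    have hc0 : c = 0 := by
      by_contra hc0
      have hm : algebraMap k P c * ((d₀ : P) * r) ∈ q := by
        have := sub_mem (q.mul_mem_right r ho) (hpq hc)
        rwa [sub_sub_cancel] at this
      rcases Ideal.IsPrime.mem_or_mem inferInstance ((Ideal.unit_mul_mem_iff_mem q
        ((isUnit_iff_ne_zero.2 hc0).map (algebraMap k P))).1 hm) with h2 | h2
      exacts [d₀.2 h2, hrq h2]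
    subst hc0
    rw [map_zero, zero_mul, sub_zero] at hc
    have hαp : ((d₀ : P) * r) * α ∈ p := by
      rw [← heq]
      exact Ideal.mul_mem_right _ _ hc
    rcases Ideal.IsPrime.mem_or_mem inferInstance hαp with h2 | h2
    · exact hdp h2
    · exact hreg a α sn ha0 hγa p hp h2

end Groth.Agent.H29SpaceCurve
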