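import Groth.Agent.H22Alg.KrullAkizuki
import Mathlib
import Mathlib.RingTheory.Ideal.MinimalPrime.Basic
import Mathlib.RingTheory.Ideal.MinimalPrime.Noetherian
import Mathlib.RingTheory.Localization.AtPrime.Basic

/-!
# A function regular at a one-dimensional point out of a function field below it

`O` is a one-dimensional reduced local ring at a rational point, `K` is a field which is not algebraic over
the algebraically closed ground field and maps into all the residue fields at the minimal primes of `O`.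
Some nonzero element of `K` is given, in each of these fields, by one element of the maximal ideal of `O`.
-/

universe u

namespace Groth.Agent.H29SpaceCurve

open IsLocalRing

variable {k : Type u} [Field k] [IsAlgClosed k]

theorem smul_mem_or {L : Type u} [Field L] {C : Subring L} [IsDedekindDomain C] [IsFractionRing C L]
    (M : Ideal C) [M.IsMaximal] (z : L) (hz : z ≠ 0) :
    (∃ s : C, s ∉ M ∧ ∃ p : C, (p : L) = s * z) ∨ ∃ s : C, s ∉ M ∧ ∃ p : C, p ∈ M ∧ (p : L) = s * z⁻¹ := by
  letI : Algebra (Localization.AtPrime M) L :=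
    (IsLocalization.lift (M := M.primeCompl) (g := algebraMap C L) fun y => isUnit_iff_ne_zero.2 fun h =>
      y.2 (by rw [show (y : C) = 0 from IsFractionRing.injective C L (h.trans (map_zero _).symm)]; exact M.zero_mem)).toAlgebra
  haveI : IsScalarTower C (Localization.AtPrime M) L :=
    IsScalarTower.of_algebraMap_eq fun c => (IsLocalization.lift_eq (M := M.primeCompl) _ c).symm
  haveI : IsFractionRing (Localization.AtPrime M) L :=
    IsFractionRing.isFractionRing_of_isDomain_of_isLocalization M.primeCompl _ L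
  have key : ∀ w : L, (∃ r : Localization.AtPrime M, algebraMap _ L r = w) →
      ∃ s : C, s ∉ M ∧ ∃ p : C, (p : L) = s * w := by
    rintro _ ⟨r, rfl⟩
    obtain ⟨⟨p, s⟩, h⟩ := IsLocalization.surj M.primeCompl r
    refine ⟨s, s.2, p, ?_⟩
    have := congrArg (algebraMap (Localization.AtPrime M) L) h
    rw [map_mul, ← IsScalarTower.algebraMap_apply, ← IsScalarTower.algebraMap_apply] at this
    exact this.symm.trans (mul_comm _ _)
  by_cases h : ∃ s : C, s ∉ M ∧ ∃ p : C, (p : L) = s * z
  · exact Or.inl h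
  refine Or.inr ?_
  by_cases hM : M = ⊥
  · obtain ⟨p, q, hq, rfl⟩ := IsFractionRing.div_surjective C z
    refine absurd ⟨q, by rw [hM]; exact nonZeroDivisors.ne_zero hq, p, ?_⟩ h
    have hq0 : (q : L) ≠ 0 := fun e => nonZeroDivisors.ne_zero hq (Subtype.ext e)
    show (p : L) = (q : L) * ((p : L) / (q : L))
    field_simp
  haveI : IsDiscreteValuationRing (Localization.AtPrime M) :=
    IsLocalization.AtPrime.isDiscreteValuationRing_of_dedekind_domain C hM _
  rcases ValuationRing.isInteger_or_isInteger (Localization.AtPrime M) z with ⟨r, hr⟩ | ⟨r, hr⟩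
  · exact absurd (key z ⟨r, hr⟩) h
  · obtain ⟨s, hs, p, hp⟩ := key _ ⟨r, hr⟩
    refine ⟨s, hs, p, by_contra fun hpM => h ⟨p, hpM, s, ?_⟩, hp⟩
    rw [hp]
    field_simp

/-- An element avoiding finitely many obstructions can be moved into all the given maximal ideals. -/
theorem exists_mem_jacobson {K : Type u} [Field K] [Algebra k K] {ι : Type u} [Fintype ι] {L : ι → Type u}
    [∀ i, Field (L i)] [∀ i, Algebra k (L i)] (C : ∀ i, Subalgebra k (L i)) [∀ i, IsDedekindDomain (C i)]
    [∀ i, IsFractionRing (C i) (L i)] [∀ i, Finite (MaximalSpectrum (C i))]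
    (hres : ∀ i (M : MaximalSpectrum (C i)) (c : C i), ∃ a : k, c - algebraMap k (C i) a ∈ M.asIdeal)
    (φ : ∀ i, K →ₐ[k] L i) (t : K) (ht : t ∉ (algebraMap k K).range) :
    ∃ x : K, x ≠ 0 ∧ ∀ i, ∃ c : C i, (c : L i) = φ i x ∧ c ∈ (⊥ : Ideal (C i)).jacobson := by
  classical
  haveI := fun i => Fintype.ofFinite (MaximalSpectrum (C i))
  haveI : ∀ i, IsDedekindDomain (C i).toSubring := fun i => inferInstanceAs (IsDedekindDomain (C i))
  haveI : ∀ i, IsFractionRing (C i).toSubring (L i) := fun i => inferInstanceAs (IsFractionRing (C i) (L i))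
  have ht0 : ∀ c : k, t - algebraMap k K c ≠ 0 := fun c h => ht ⟨c, (sub_eq_zero.1 h).symm⟩
  have hz : ∀ i, φ i t ≠ 0 := fun i h =>
    ht ⟨0, by rw [map_zero, (φ i).toRingHom.injective (h.trans (map_zero _).symm)]⟩
  -- residues at the places where `t` is finite
  let val : (Σ i, MaximalSpectrum (C i)) → k := fun M =>
    if h : ∃ v : k, ∃ s : C M.1, s ∉ M.2.asIdeal ∧ ∃ p : C M.1, (p : L M.1) = s * φ M.1 t ∧
      p - algebraMap k (C M.1) v * s ∈ M.2.asIdeal
    then h.choose else 0
  obtain ⟨c, hc⟩ := Infinite.exists_notMem_finset (Finset.univ.image val)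
  let t' : K := (t - algebraMap k K c)⁻¹
  -- `t'` is integral everywhere
  have hmem : ∀ i, φ i t' ∈ C i := fun i => by
    let I : Ideal (C i) :=
      { carrier := {s | (s : L i) * φ i t' ∈ C i}
        add_mem' := fun {x y} hx hy => by
          show ((x + y : C i) : L i) * φ i t' ∈ C i
          rw [AddMemClass.coe_add, add_mul]; exact add_mem hx hy
        zero_mem' := by
          show ((0 : C i) : L i) * φ i t' ∈ C i
          rw [ZeroMemClass.coe_zero, zero_mul]; exact zero_mem _
        smul_mem' := fun x y hy => by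
          show ((x * y : C i) : L i) * φ i t' ∈ C i
          rw [MulMemClass.coe_mul, mul_assoc]; exact mul_mem x.2 hy }
    suffices I = ⊤ by
      have h1 : ((1 : C i) : L i) * φ i t' ∈ C i := (Ideal.eq_top_iff_one I).1 this
      rwa [OneMemClass.coe_one, one_mul] at h1
    by_contra hne
    obtain ⟨M, hM, hIM⟩ := Ideal.exists_le_maximal I hne
    have hden : φ i t - algebraMap k (L i) c ≠ 0 := fun h => ht0 c ((φ i).toRingHom.injective (by simpa using h))
    have ht' : φ i t' = (φ i t - algebraMap k (L i) c)⁻¹ := by simp [t']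
    haveI := hM
    have sub_mul_mem : ∀ (p s : C i) (v : k), p - algebraMap k (C i) v * s ∈ M →
        ∀ w : k, p - algebraMap k (C i) w * s ∈ M → s ∉ M → v = w := fun p s v hv w hw hs => by
      by_contra hvw
      refine hs ((Ideal.mul_unit_mem_iff_mem M ((isUnit_iff_ne_zero.2 (sub_ne_zero.2 hvw)).map (algebraMap k (C i)))).1 ?_)
      convert sub_mem hw hv using 1
      rw [map_sub]; ring
    rcases smul_mem_or (C := (C i).toSubring) M (φ i t) (hz i) with ⟨s, hs, p, hp⟩ | ⟨s, hs, p, hpM, hp⟩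
    · obtain ⟨a, ha⟩ := hres i ⟨M, hM⟩ p
      obtain ⟨b, hb⟩ := hres i ⟨M, hM⟩ s
      have hb0 : b ≠ 0 := fun h => hs (by simpa [h] using hb)
      have h : ∃ v : k, ∃ s : C i, s ∉ M ∧ ∃ p : C i, (p : L i) = s * φ i t ∧ p - algebraMap k (C i) v * s ∈ M := by
        refine ⟨a / b, s, hs, p, hp, ?_⟩
        have h' := sub_mem ha (M.mul_mem_left (algebraMap k (C i) (a / b)) hb)
        convert h' using 1
        rw [mul_sub, ← map_mul, div_mul_cancel₀ _ hb0]; ring
      obtain ⟨s', hs', p', hp', hv⟩ := h.choose_spec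
      have hval : val ⟨i, M, hM⟩ = h.choose := dif_pos h
      have hnot : p' - algebraMap k (C i) c * s' ∉ M := fun hm => hc (Finset.mem_image.2
        ⟨⟨i, M, hM⟩, Finset.mem_univ _, hval.trans (sub_mul_mem _ _ _ hv _ hm hs')⟩)
      refine hnot (hIM ?_)
      show ((p' - algebraMap k (C i) c * s' : C i) : L i) * φ i t' ∈ C i
      have : ((p' - algebraMap k (C i) c * s' : C i) : L i) * φ i t' = s' := by
        rw [AddSubgroupClass.coe_sub, MulMemClass.coe_mul, hp', ht', Subalgebra.coe_algebraMap,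
          show (s' : L i) * φ i t - algebraMap k (L i) c * s' = s' * (φ i t - algebraMap k (L i) c) by ring,
          mul_assoc, mul_inv_cancel₀ hden, mul_one]
      rw [this]; exact s'.2
    · refine hs ?_
      have hmem' : s - algebraMap k (C i) c * p ∈ M := hIM (by
        show ((s - algebraMap k (C i) c * p : C i) : L i) * φ i t' ∈ C i
        have : ((s - algebraMap k (C i) c * p : C i) : L i) * φ i t' = p := by
          rw [AddSubgroupClass.coe_sub, MulMemClass.coe_mul, hp, ht', Subalgebra.coe_algebraMap]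
          have hzi := hz i
          field_simp
        rw [this]; exact p.2)
      simpa using add_mem hmem' (M.mul_mem_left (algebraMap k (C i) c) hpM)
  choose a ha using fun (M : Σ i, MaximalSpectrum (C i)) => hres M.1 M.2 ⟨φ M.1 t', hmem M.1⟩
  refine ⟨∏ M, (t' - algebraMap k K (a M)), ?_, fun i => ⟨∏ M, (⟨φ i t', hmem i⟩ - algebraMap k (C i) (a M)), ?_, ?_⟩⟩
  · refine Finset.prod_ne_zero_iff.2 fun M _ h => ?_
    have h' : (t - algebraMap k K c)⁻¹ = algebraMap k K (a M) := sub_eq_zero.1 h
    refine ht ⟨c + (a M)⁻¹, ?_⟩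
    rw [map_add, map_inv₀, ← h', inv_inv, add_sub_cancel]
  · simp [map_prod, AddSubgroupClass.coe_sub]
  · rw [Ideal.jacobson, Submodule.mem_sInf]
    rintro M ⟨-, hM⟩
    rw [← Finset.mul_prod_erase _ _ (Finset.mem_univ (⟨i, M, hM⟩ : Σ i, MaximalSpectrum (C i)))]
    exact Ideal.mul_mem_right _ M (ha ⟨i, M, hM⟩)

variable {O : Type u} [CommRing O] [IsLocalRing O] [Algebra k O]

theorem exists_residue_eq (hres : ∀ o : O, ∃ c : k, o - algebraMap k O c ∈ maximalIdeal O)
    {B L : Type u} [CommRing B] [Algebra O B] [Algebra k B] [IsScalarTower k O B] [IsLocalRing B]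
    (hB : Function.Surjective (algebraMap O B)) [Field L] [Algebra B L] [Algebra k L] [IsScalarTower k B L]
    (C : Subalgebra B L) [Algebra.IsIntegral B C] (M : Ideal C) [M.IsMaximal] (c : C) :
    ∃ a : k, c - ⟨algebraMap k L a, by rw [IsScalarTower.algebraMap_apply k B L]; exact C.algebraMap_mem _⟩ ∈ M := by
  letI := Ideal.Quotient.field M
  let σ : k →+* C :=
    (algebraMap k L).codRestrict C.toSubring fun a => by
      rw [IsScalarTower.algebraMap_apply k B L]; exact C.algebraMap_mem _
  letI : Algebra k (C ⧸ M) := ((Ideal.Quotient.mk M).comp σ).toAlgebra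
  have hσ : ∀ a : k, σ a = algebraMap B C (algebraMap k B a) := fun a => Subtype.ext
    (IsScalarTower.algebraMap_apply k B L a)
  have hbm : ∀ b : B, ∃ a : k, b - algebraMap k B a ∈ maximalIdeal B := fun b => by
    obtain ⟨o, rfl⟩ := hB b
    obtain ⟨a, ha⟩ := hres o
    refine ⟨a, ?_⟩
    rw [IsScalarTower.algebraMap_apply k O B, ← map_sub]
    haveI : IsLocalHom (algebraMap O B) := IsLocalHom.of_surjective _ hB
    exact map_nonunit _ _ ha
  choose r hr using hbm
  have hcomap : M.comap (algebraMap B C) = maximalIdeal B :=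
    IsLocalRing.eq_maximalIdeal (Ideal.isMaximal_comap_of_isIntegral_of_isMaximal M)
  have halg : Algebra.IsIntegral k (C ⧸ M) := ⟨fun z => by
    obtain ⟨z, rfl⟩ := Ideal.Quotient.mk_surjective z
    obtain ⟨P, hP, hP0⟩ := Algebra.IsIntegral.isIntegral (R := B) z
    refine ⟨Polynomial.X ^ P.natDegree + ∑ j ∈ Finset.range P.natDegree, Polynomial.C (r (P.coeff j)) * Polynomial.X ^ j, ?_, ?_⟩
    · exact Polynomial.monic_X_pow_add (Polynomial.degree_sum_fin_lt _ |> fun h => by
        rw [← Fin.sum_univ_eq_sum_range (fun j => Polynomial.C (r (P.coeff j)) * Polynomial.X ^ j)]; exact h)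
    · have he : ∀ j, algebraMap k (C ⧸ M) (r (P.coeff j)) = Ideal.Quotient.mk M (algebraMap B C (P.coeff j)) := fun j => by
        show Ideal.Quotient.mk M (σ (r (P.coeff j))) = _
        rw [hσ, Ideal.Quotient.eq, ← neg_mem_iff, neg_sub, ← map_sub]
        exact hcomap.ge (hr _)
      have h := congrArg (Ideal.Quotient.mk M) hP0
      rw [map_zero, hP.as_sum] at h
      simpa [Polynomial.eval₂_finsetSum, map_sum, he] using h⟩
  obtain ⟨a, ha⟩ := (IsAlgClosed.algebraMap_bijective_of_isIntegral (k := k) (K := C ⧸ M)).2 (Ideal.Quotient.mk M c)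
  exact ⟨a, Ideal.Quotient.eq.1 ha.symm⟩

/-- A nonzero element of the function field below given, at all branches, by one element of the maximal
ideal of `O`. -/
theorem exists_regular_function [IsNoetherianRing O] [_root_.IsReduced O] [Ring.KrullDimLE 1 O]
    (hres : ∀ o : O, ∃ c : k, o - algebraMap k O c ∈ maximalIdeal O) {K : Type u} [Field K] [Algebra k K]
    (φ : ∀ p : minimalPrimes O, K →ₐ[k] FractionRing (O ⧸ (p : Ideal O))) (t : K) (ht : t ∉ (algebraMap k K).range) :
    ∃ x : K, x ≠ 0 ∧ ∃ o ∈ maximalIdeal O, ∀ p : minimalPrimes O,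
      algebraMap O (FractionRing (O ⧸ (p : Ideal O))) o = φ p x := by
  classical
  haveI : Finite (minimalPrimes O) := (minimalPrimes.finite_of_isNoetherianRing O).to_subtype
  haveI := Fintype.ofFinite (minimalPrimes O)
  haveI : ∀ p : minimalPrimes O, (p : Ideal O).IsPrime := fun p => Ideal.minimalPrimes_isPrime p.2
  let L : minimalPrimes O → Type u := fun p => FractionRing (O ⧸ (p : Ideal O))
  haveI : ∀ p : minimalPrimes O, IsLocalRing (O ⧸ (p : Ideal O)) := fun p =>
    IsLocalRing.of_surjective' _ Ideal.Quotient.mk_surjective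
  haveI : ∀ p : minimalPrimes O, Ring.KrullDimLE 1 (O ⧸ (p : Ideal O)) := fun p =>
    Ring.krullDimLE_iff.2 ((ringKrullDim_le_of_surjective _ Ideal.Quotient.mk_surjective).trans
      (Ring.krullDimLE_iff.1 ‹_›))
  let D : ∀ p : minimalPrimes O, Subalgebra (O ⧸ (p : Ideal O)) (L p) := fun p => integralClosure _ _
  let C : ∀ p : minimalPrimes O, Subalgebra k (L p) := fun p => (D p).restrictScalars k
  haveI : ∀ p, IsDedekindDomain (C p) := fun p => H22Alg.isDedekindDomain_integralClosure
  haveI : ∀ p, IsFractionRing (C p) (L p) := fun p =>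
    IsFractionRing.of_field (D p) (L p) fun z => by
      obtain ⟨a, b, hb, rfl⟩ := IsFractionRing.div_surjective (O ⧸ (p : Ideal O)) z
      exact ⟨algebraMap _ (D p) a, algebraMap _ (D p) b, rfl⟩
  haveI : ∀ p : minimalPrimes O, Algebra.IsIntegral (O ⧸ (p : Ideal O)) (D p) := fun p =>
    inferInstanceAs (Algebra.IsIntegral _ (integralClosure _ _))
  haveI : ∀ p, Finite (MaximalSpectrum (C p)) := fun p => by
    by_cases hf : IsField (O ⧸ (p : Ideal O))
    · refine Finite.of_injective (fun _ : MaximalSpectrum (D p) => ()) fun M M' _ => MaximalSpectrum.ext ?_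
      have h : ∀ N : MaximalSpectrum (D p), N.asIdeal = ⊥ := fun N => by
        haveI := N.isMaximal
        letI := hf.toField
        refine Ideal.eq_bot_of_comap_eq_bot (R := O ⧸ (p : Ideal O)) ?_
        exact (Ideal.eq_bot_or_top _).resolve_right (Ideal.comap_ne_top _ N.isMaximal.ne_top)
      rw [h M, h M']
    · exact H22Alg.finite_maximalSpectrum_subalgebra (D p)
        (Finite.of_injective (fun _ => ()) fun M M' _ => MaximalSpectrum.ext
          ((IsLocalRing.eq_maximalIdeal M.isMaximal).trans (IsLocalRing.eq_maximalIdeal M'.isMaximal).symm)) hf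
  obtain ⟨x, hx0, hx⟩ := exists_mem_jacobson C (fun p M c => by
    let M' : Ideal (D p) := M.asIdeal
    haveI : M'.IsMaximal := M.isMaximal
    obtain ⟨a, ha⟩ := exists_residue_eq hres (B := O ⧸ (p : Ideal O)) Ideal.Quotient.mk_surjective (D p) M' c
    exact ⟨a, ha⟩) φ t ht
  choose c hc hcJ using hx
  -- elements vanishing on all branches but one
  have hγ : ∀ p : minimalPrimes O, ∃ γ : O, γ ∉ (p : Ideal O) ∧ ∀ q : minimalPrimes O, q ≠ p → γ ∈ (q : Ideal O) := fun p => by
    have : ¬ (Finset.univ.erase p).inf (fun q : minimalPrimes O => (q : Ideal O)) ≤ (p : Ideal O) := by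
      rw [Ideal.IsPrime.inf_le' inferInstance]
      rintro ⟨q, hq, hle⟩
      exact Finset.ne_of_mem_erase hq (Subtype.ext (le_antisymm hle (p.2.2 ⟨inferInstance, bot_le⟩ hle)))
    obtain ⟨γ, hγ, hγp⟩ := SetLike.not_le_iff_exists.1 this
    exact ⟨γ, hγp, fun q hq => Submodule.mem_finsetInf.1 hγ q (Finset.mem_erase.2 ⟨hq, Finset.mem_univ _⟩)⟩
  choose γ hγp hγq using hγ
  have key : ∀ p : minimalPrimes O, ∃ e : ℕ, 0 < e ∧ ∀ j : ℕ, 0 < j → ∃ r : O, γ p * r ∈ maximalIdeal O ∧
      algebraMap O (L p) (γ p * r) = φ p (x ^ (e * j)) := fun p => by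
    obtain ⟨n, b, hb⟩ := H22Alg.exists_pow_mul_mem_range_of_integral (B := O ⧸ (p : Ideal O)) (c p) (c p) (hcJ p)
    have hb' : algebraMap _ (L p) b = φ p x ^ (n + 1) := by
      rw [hb, ← hc p, pow_succ]; rfl
    have hbJ : b ∈ (⊥ : Ideal (O ⧸ (p : Ideal O))).jacobson := by
      refine H22Alg.mem_jacobson_of_integralClosure (K := L p) b ?_
      have : algebraMap (O ⧸ (p : Ideal O)) (D p) b = (c p) ^ n * c p := Subtype.ext hb
      rw [this]
      exact Ideal.mul_mem_left _ _ (hcJ p)
    obtain ⟨m, hm⟩ := H22Alg.exists_pow_mem_span hbJ (x := Ideal.Quotient.mk (p : Ideal O) (γ p))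
      (fun h => hγp p (Ideal.Quotient.eq_zero_iff_mem.1 h))
    obtain ⟨d, hd⟩ := Ideal.mem_span_singleton'.1 hm
    obtain ⟨d, rfl⟩ := Ideal.Quotient.mk_surjective d
    obtain ⟨b, rfl⟩ := Ideal.Quotient.mk_surjective b
    refine ⟨(n + 1) * (m + 1), by positivity, fun j hj => ?_⟩
    obtain ⟨j, rfl⟩ := Nat.exists_eq_succ_of_ne_zero hj.ne'
    refine ⟨d * b * (b ^ (m + 1)) ^ j, ?_, ?_⟩
    · have hbm : b ∈ maximalIdeal O := by
        rw [IsLocalRing.jacobson_eq_maximalIdeal _ bot_ne_top] at hbJ
        exact fun hu => hbJ (hu.map (Ideal.Quotient.mk _))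
      rw [← mul_assoc]
      exact Ideal.mul_mem_right _ _ (Ideal.mul_mem_left _ _ (Ideal.mul_mem_left _ _ hbm))
    · rw [show (n + 1) * (m + 1) * (j + 1) = (n + 1) * (m + 1) + (n + 1) * ((m + 1) * j) by ring]
      rw [IsScalarTower.algebraMap_apply O (O ⧸ (p : Ideal O)) (L p), map_pow (φ p), pow_add (φ p x), pow_mul (φ p x) (n + 1),
        pow_mul (φ p x) (n + 1),
        ← hb', ← map_pow (algebraMap (O ⧸ (p : Ideal O)) (L p)), ← map_pow (algebraMap (O ⧸ (p : Ideal O)) (L p)),
        ← map_mul (algebraMap (O ⧸ (p : Ideal O)) (L p))]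
      congr 1
      show Ideal.Quotient.mk _ (γ p * (d * b * (b ^ (m + 1)) ^ j)) = _
      simp only [map_mul, map_pow, pow_succ, pow_mul]
      rw [← hd]
      ring
  choose e he hkey using key
  let N := ∏ p, e p
  have hN : ∀ p, ∃ j, 0 < j ∧ e p * j = N := fun p =>
    ⟨∏ q ∈ Finset.univ.erase p, e q, Finset.prod_pos fun q _ => he q, Finset.mul_prod_erase _ _ (Finset.mem_univ p)⟩
  choose j hj hjN using hN
  choose r hrm hr using fun p => hkey p (j p) (hj p)
  refine ⟨x ^ N, pow_ne_zero _ hx0, ∑ p, γ p * r p, Ideal.sum_mem _ fun p _ => hrm p, fun p => ?_⟩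
  rw [map_sum, Finset.sum_eq_single p]
  · rw [← hjN p]; exact hr p
  · intro q _ hqp
    rw [IsScalarTower.algebraMap_apply O (O ⧸ (p : Ideal O)) (FractionRing (O ⧸ (p : Ideal O))),
      Ideal.Quotient.algebraMap_eq, Ideal.Quotient.eq_zero_iff_mem.2
        (Ideal.mul_mem_right _ _ (hγq q p (Ne.symm hqp))), map_zero]
  · exact fun h => absurd (Finset.mem_univ p) h

end Groth.Agent.H29SpaceCurve
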